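import Cfsg.Agent.Lib.SpecPSL2.Basic
import Cfsg.Agent.Lib.ZStar.UniqueInvol

/-!
# Sylow 2-subgroups and the triviality of the odd core
-/

set_option autoImplicit false
set_option linter.style.haveILetI false
set_option linter.unusedSectionVars false

namespace CfsgLib.SpecPSL2

open MulAction

variable {G : Type*} [Group G] [Finite G]

/-- A group acting by conjugation without fixed points on `V \ 1` has order dividing `|V| - 1`. -/
theorem card_dvd_sub_one {A V : Subgroup G} (hAV : A ≤ Subgroup.normalizer (V : Set G))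
    (hfix : ∀ a ∈ A, ∀ v ∈ V, v ≠ 1 → a * v = v * a → a = 1) :
    Nat.card A ∣ Nat.card V - 1 := by
  classical
  let V1 := {v : V // v ≠ 1}
  have hmem : ∀ (a : A) (v : V), (a : G) * v * (a : G)⁻¹ ∈ V := fun a v =>
    (Subgroup.mem_normalizer_iff.mp (hAV a.2) v).mp v.2
  letI : MulAction A V1 :=
    { smul := fun a v => ⟨⟨(a : G) * (v.1 : G) * (a : G)⁻¹, hmem a v.1⟩, fun e => v.2 (Subtype.ext (by
        have e' : (a : G) * (v.1 : G) * (a : G)⁻¹ = 1 := congrArg Subtype.val e
        exact conj_eq_one_iff.mp e'))⟩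
      one_smul := fun v => Subtype.ext (Subtype.ext (by
        show (1 : G) * (v.1 : G) * (1 : G)⁻¹ = v.1
        simp))
      mul_smul := fun a b v => Subtype.ext (Subtype.ext (by
        show ((a : G) * b) * (v.1 : G) * ((a : G) * b)⁻¹ =
          (a : G) * ((b : G) * (v.1 : G) * (b : G)⁻¹) * (a : G)⁻¹
        group)) }
  haveI := Fintype.ofFinite A
  haveI := Fintype.ofFinite V1
  haveI : Fintype (Quotient (orbitRel A V1)) := Fintype.ofFinite _
  have hstab : ∀ v : V1, stabilizer A v = ⊥ := by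
    refine fun v => (Subgroup.eq_bot_iff_forall _).mpr fun a ha => Subtype.ext ?_
    have e : (a : G) * (v.1 : G) * (a : G)⁻¹ = v.1 :=
      congrArg (fun w : V1 => (w.1 : G)) (mem_stabilizer_iff.mp ha)
    exact hfix a a.2 v.1 v.1.2 (fun e' => v.2 (Subtype.ext e')) (mul_inv_eq_iff_eq_mul.mp e)
  have hV1 : Nat.card V1 = Nat.card V - 1 := by
    haveI := Fintype.ofFinite V
    rw [Nat.card_eq_fintype_card, Fintype.card_subtype_compl, Fintype.card_subtype_eq,
      Nat.card_eq_fintype_card]
  rw [← hV1, Nat.card_congr (MulAction.selfEquivSigmaOrbits A V1), Nat.card_sigma]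
  refine Finset.dvd_sum fun ω _ => ?_
  have := Nat.card_congr (MulAction.orbitEquivQuotientStabilizer A ω.out)
  rw [hstab] at this
  rw [this, ← Subgroup.index_eq_card, Subgroup.index_bot]

variable {p q n m : ℕ} (h : Data G p q n m)

include h

theorem Data.not_two_dvd_qm : ¬ 2 ∣ q * m := fun e =>
  (Nat.prime_two.dvd_mul.mp e).elim
    (fun e => Nat.not_even_iff_odd.mpr h.q_odd (even_iff_two_dvd.mpr e))
    (fun e => Nat.not_even_iff_odd.mpr h.m_odd (even_iff_two_dvd.mpr e))

/-- The 2-part of `|G|` is twice that of `n`. -/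
theorem Data.factorization_two :
    (Nat.card G).factorization 2 = n.factorization 2 + 1 := by
  have h2 := h.n_pos
  have h3 := h.m_ge
  have h5 := h.q5
  rw [h.card, show 2 * q * n * m = (q * m) * (2 * n) by ring,
    Nat.factorization_mul (Nat.mul_ne_zero (by omega) (by omega)) (by omega),
    Nat.factorization_mul (a := 2) (b := n) (by omega) (by omega)]
  simp only [Finsupp.coe_add, Pi.add_apply,
    Nat.factorization_eq_zero_of_not_dvd h.not_two_dvd_qm, Nat.prime_two.factorization_self]
  omega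

/-- The `p`-part of `|G|` is `q`. -/
theorem Data.factorization_p : p ^ (Nat.card G).factorization p = q := by
  have h2 := h.n_pos
  have h3 := h.m_ge
  have h5 := h.q5
  obtain ⟨f, hf⟩ := h.hpow
  have hp' : ¬ p ∣ 2 * n * m := fun e => by
    rcases h.hp.dvd_mul.mp e with e | e
    · rcases h.hp.dvd_mul.mp e with e | e
      · exact h.p2 ((Nat.prime_dvd_prime_iff_eq h.hp Nat.prime_two).mp e)
      · exact h.p_not_dvd.1 e
    · exact h.p_not_dvd.2 e
  rw [h.card, show 2 * q * n * m = q * (2 * n * m) by ring,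
    Nat.factorization_mul (by omega) (Nat.mul_ne_zero (by omega) (by omega))]
  simp only [Finsupp.coe_add, Pi.add_apply, Nat.factorization_eq_zero_of_not_dvd hp', add_zero]
  rw [hf, h.hp.factorization_pow, Finsupp.single_eq_same]

theorem Data.sylow_p_card (P : Sylow p G) : Nat.card (P : Subgroup G) = q := by
  have : Fact p.Prime := ⟨h.hp⟩
  rw [P.card_eq_multiplicity, h.factorization_p]

theorem Data.two_factor_pos : 0 < n.factorization 2 :=
  Nat.prime_two.factorization_pos_of_dvd (by have := h.n_pos; omega)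
    (even_iff_two_dvd.mp h.neven)

/-- No element has order `2 ^ (a + 1)`. -/
theorem Data.no_full_two {g : G} : orderOf g ≠ 2 ^ (n.factorization 2 + 1) := by
  intro e
  have h2 : 2 ∣ orderOf g := e ▸ dvd_pow_self 2 (Nat.succ_ne_zero _)
  rcases h.order g with d | d | d
  · exact h.p2 ((Nat.prime_dvd_prime_iff_eq Nat.prime_two h.hp).mp (h2.trans d)).symm
  · rw [e] at d
    exact Nat.pow_succ_factorization_not_dvd (by have := h.n_pos; omega) Nat.prime_two d
  · exact Nat.not_even_iff_odd.mpr h.m_odd (even_iff_two_dvd.mpr (h2.trans d))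

/-- The central involution of a Sylow 2-subgroup and the cyclic subgroup of index two. -/
theorem Data.exists_central : ∃ (x t : G) (T : Sylow 2 G), orderOf x = n ∧ orderOf t = 2 ∧
    t ∈ Subgroup.zpowers x ∧ Subgroup.zpowers (x ^ (ordCompl[2] n)) ≤ (T : Subgroup G) ∧
    (Subgroup.zpowers (x ^ (ordCompl[2] n))).relIndex (T : Subgroup G) = 2 ∧
    t ∈ Subgroup.zpowers (x ^ (ordCompl[2] n)) ∧
    (∀ g ∈ (T : Subgroup G), g * t = t * g) ∧
    Nat.card (Subgroup.centralizer ({t} : Set G)) = 2 * n := by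
  have : Fact (Nat.Prime 2) := ⟨Nat.prime_two⟩
  obtain ⟨x, hx⟩ := h.exn
  have hn0 : n ≠ 0 := by have := h.n_pos; omega
  set a := n.factorization 2 with ha
  have hapos := h.two_factor_pos
  set x2 := x ^ (ordCompl[2] n) with hx2
  have hx2o : orderOf x2 = 2 ^ a := by
    rw [hx2, orderOf_pow_of_dvd (Nat.ordCompl_pos 2 hn0).ne' (hx ▸ Nat.ordCompl_dvd n 2), hx]
    exact Nat.div_div_self (Nat.ordProj_dvd n 2) hn0
  have hX2 : IsPGroup 2 (Subgroup.zpowers x2) := IsPGroup.of_card (by rw [Nat.card_zpowers, hx2o])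
  obtain ⟨T, hT⟩ := hX2.exists_le_sylow
  have hTc : Nat.card (T : Subgroup G) = 2 ^ (a + 1) := by
    rw [T.card_eq_multiplicity, h.factorization_two]
  have hrel : (Subgroup.zpowers x2).relIndex (T : Subgroup G) = 2 := by
    have e := Subgroup.card_mul_index ((Subgroup.zpowers x2).subgroupOf (T : Subgroup G))
    rw [Nat.card_congr (Subgroup.subgroupOfEquivOfLe hT).toEquiv, Nat.card_zpowers, hx2o, hTc,
      pow_succ] at e
    exact Nat.eq_of_mul_eq_mul_left (by positivity) e
  set t := x2 ^ (2 ^ (a - 1)) with ht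
  have hto : orderOf t = 2 := by
    rw [ht, orderOf_pow_of_dvd (by positivity) (hx2o ▸ pow_dvd_pow 2 (Nat.sub_le a 1)), hx2o,
      Nat.pow_div (Nat.sub_le a 1) (by norm_num), show a - (a - 1) = 1 by omega, pow_one]
  have htX2 : t ∈ Subgroup.zpowers x2 := Subgroup.npow_mem_zpowers _ _
  have htX : t ∈ Subgroup.zpowers x := by
    rw [ht, hx2, ← pow_mul]; exact Subgroup.npow_mem_zpowers _ _
  have hcentral : ∀ g ∈ (T : Subgroup G), g * t = t * g := by
    intro g hg
    have hn' : ((Subgroup.zpowers x2).subgroupOf (T : Subgroup G)).Normal :=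
      Subgroup.normal_of_index_eq_two hrel
    have hg1 : g * t * g⁻¹ ∈ Subgroup.zpowers x2 := hn'.conj_mem ⟨t, hT htX2⟩ htX2 ⟨g, hg⟩
    obtain ⟨⟨ht1, ht2⟩, hu⟩ : (t * t = 1 ∧ t ≠ 1) ∧ ∀ z ∈ Subgroup.zpowers x2, z * z = 1 → z ≠ 1 → z = t := by
      refine ⟨⟨by rw [← pow_two, ← hto, pow_orderOf_eq_one],
        fun e => by rw [e, orderOf_one] at hto; omega⟩, fun z hz hzz hz1 => ?_⟩
      classical
      have hc : IsCyclic (Subgroup.zpowers x2) := inferInstance
      haveI := Fintype.ofFinite (Subgroup.zpowers x2)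
      have hle := IsCyclic.card_pow_eq_one_le (α := Subgroup.zpowers x2) (n := 2) two_pos
      by_contra hne
      classical
      have ht1' : t * t = 1 := by rw [← pow_two, ← hto, pow_orderOf_eq_one]
      have hsub : ({1, ⟨z, hz⟩, ⟨t, htX2⟩} : Finset (Subgroup.zpowers x2)) ⊆
          Finset.univ.filter fun w => w ^ 2 = 1 := by
        intro w hw
        simp only [Finset.mem_insert, Finset.mem_singleton] at hw
        rcases hw with rfl | rfl | rfl <;> simp [Subtype.ext_iff, pow_two, hzz, ht1']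
      have h3 := Finset.card_le_card hsub
      rw [Finset.card_insert_of_notMem, Finset.card_insert_of_notMem, Finset.card_singleton] at h3
      · omega
      · simp [hne]
      · simp only [Finset.mem_insert, Finset.mem_singleton, Subtype.ext_iff, Subgroup.coe_one]
        rintro (e | e)
        · exact hz1 e.symm
        · rw [← e, orderOf_one] at hto; omega
    exact mul_inv_eq_iff_eq_mul.mp (hu _ hg1
      (by rw [show g * t * g⁻¹ * (g * t * g⁻¹) = g * (t * t) * g⁻¹ by group, ht1]; group)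
      (fun e => ht2 (conj_eq_one_iff.mp e)))
  refine ⟨x, t, T, hx, hto, htX, hT, hrel, htX2, hcentral, ?_⟩
  refine Nat.dvd_antisymm (h.cent_invol hto) ?_
  have h1 : 2 ^ (a + 1) ∣ Nat.card (Subgroup.centralizer ({t} : Set G)) :=
    hTc ▸ Subgroup.card_dvd_of_le fun g hg => mem_cent.mpr (hcentral g hg)
  have h2 : n ∣ Nat.card (Subgroup.centralizer ({t} : Set G)) := by
    rw [← hx, ← Nat.card_zpowers]
    refine Subgroup.card_dvd_of_le (Subgroup.zpowers_le.mpr (mem_cent.mpr ?_))
    obtain ⟨k, hk⟩ := htX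
    rw [← hk]
    exact (Commute.self_zpow x k).eq
  have e : 2 * n = 2 ^ (a + 1) * ordCompl[2] n := by
    rw [pow_succ, mul_comm (2 ^ a) 2, mul_assoc, Nat.ordProj_mul_ordCompl_eq_self]
  rw [e]
  exact (((Nat.prime_two.coprime_iff_not_dvd).mpr
    (Nat.not_dvd_ordCompl Nat.prime_two hn0)).pow_left _).mul_dvd_of_dvd_of_dvd h1
    ((Nat.ordCompl_dvd n 2).trans h2)

/-- A 2-subgroup of full order is not cyclic. -/
theorem Data.not_cyclic {T : Subgroup G} (hT : Nat.card T = 2 ^ (n.factorization 2 + 1)) :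
    ¬ IsCyclic T := fun hc => by
  obtain ⟨g, hg⟩ := isCyclic_iff_exists_orderOf_eq_natCard.mp hc
  exact h.no_full_two (g := (g : G)) (by rw [Subgroup.orderOf_coe, hg, hT])

/-- An abelian subgroup of full 2-order contains two involutions. -/
theorem Data.two_involutions {T : Subgroup G} (hT : Nat.card T = 2 ^ (n.factorization 2 + 1))
    (hab : ∀ a ∈ T, ∀ b ∈ T, a * b = b * a) :
    ∃ u ∈ T, ∃ v ∈ T, orderOf u = 2 ∧ orderOf v = 2 ∧ u ≠ v := by
  by_contra hcon
  push Not at hcon
  rcases CfsgLib.ZStar.unique_involution_structure (IsPGroup.of_card hT) (fun u v hu hv =>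
      Subtype.ext (hcon u u.2 v v.2 (by rwa [Subgroup.orderOf_coe]) (by rwa [Subgroup.orderOf_coe])))
    with hc | ⟨a, k, hk, ha, -, hidx, hout⟩
  · exact h.not_cyclic hT hc
  obtain ⟨w, hw⟩ : ∃ w : T, w ∉ Subgroup.zpowers a := by
    by_contra hall
    push Not at hall
    rw [show Subgroup.zpowers a = ⊤ from eq_top_iff.mpr fun w _ => hall w,
      Subgroup.index_top] at hidx
    omega
  have e := hout w hw
  rw [show w * a = a * w from Subtype.ext (hab w w.2 a a.2), mul_inv_cancel_right] at e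
  have e2 : orderOf a ∣ 2 := orderOf_dvd_of_pow_eq_one (by
    rw [pow_two]; exact mul_eq_one_iff_eq_inv.mpr e)
  rw [ha] at e2
  have := Nat.le_of_dvd two_pos e2
  have := Nat.pow_le_pow_right two_pos hk
  omega

end CfsgLib.SpecPSL2
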