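import Mathlib

/-!
# Groups with the order and the element orders of `PSL(2, q)`, `q` odd: centralisers

`|G| = 2 q n m` where `n` (even) and `m` (odd) are `(q ± 1) / 2`, and every element order divides
one of `p`, `n`, `m`.
-/

set_option autoImplicit false
set_option linter.style.haveILetI false
set_option linter.unusedSectionVars false

namespace CfsgLib.SpecPSL2

/-- The arithmetic and spectral data. -/
structure Data (G : Type*) [Group G] (p q n m : ℕ) : Prop where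
  hp : p.Prime
  hpow : ∃ f : ℕ, q = p ^ f
  p2 : p ≠ 2
  q5 : 5 ≤ q
  rel : (q = 2 * n + 1 ∧ m = n + 1) ∨ (q + 1 = 2 * n ∧ m + 1 = n)
  neven : Even n
  card : Nat.card G = 2 * q * n * m
  order : ∀ g : G, orderOf g ∣ p ∨ orderOf g ∣ n ∨ orderOf g ∣ m
  exn : ∃ x : G, orderOf x = n
  exm : ∃ y : G, orderOf y = m

theorem mem_cent {G : Type*} [Group G] {a g : G} :
    g ∈ Subgroup.centralizer ({a} : Set G) ↔ g * a = a * g :=
  Subgroup.mem_centralizer_singleton_iff

variable {G : Type*} [Group G] {p q n m : ℕ} (h : Data G p q n m)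

include h

theorem Data.m_odd : Odd m := by
  obtain ⟨j, hj⟩ := h.neven
  rcases h.rel with ⟨-, e⟩ | ⟨-, e⟩
  · exact ⟨j, by omega⟩
  · exact ⟨j - 1, by have := h.q5; have := h.rel; omega⟩

theorem Data.n_pos : 2 ≤ n := by
  obtain ⟨j, hj⟩ := h.neven
  have := h.q5; have := h.rel; omega

theorem Data.m_ge : 3 ≤ m := by
  obtain ⟨j, hj⟩ := h.m_odd
  have := h.q5; have := h.rel; omega

theorem Data.q_odd : Odd q := by
  obtain ⟨f, hf⟩ := h.hpow
  rw [hf]
  exact (h.hp.odd_of_ne_two h.p2).pow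

theorem Data.coprime_nm : n.Coprime m := by
  rcases h.rel with ⟨-, e⟩ | ⟨-, e⟩
  · rw [e]; exact Nat.coprime_self_add_right.mpr (Nat.coprime_one_right n)
  · rw [← e]; exact (Nat.coprime_self_add_left).mpr (Nat.coprime_one_left m)

/-- `q` is prime to `n m`. -/
theorem Data.coprime_q : q.Coprime n ∧ q.Coprime m := by
  have h4 : q ^ 2 = 4 * (n * m) + 1 := by
    rcases h.rel with ⟨e, e'⟩ | ⟨e, e'⟩
    · subst e e'; ring
    · have hq : (q : ℤ) = 2 * n - 1 := by omega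
      have hm : (m : ℤ) = n - 1 := by omega
      zify
      rw [hq, hm]; ring
  constructor <;> refine Nat.coprime_of_dvd' fun r hr h1 h2 => ?_ <;>
  · have a : r ∣ q ^ 2 := dvd_pow h1 two_ne_zero
    rw [h4] at a
    exact (Nat.dvd_add_right (by first
      | exact Dvd.dvd.mul_left (h2.mul_right m) 4
      | exact Dvd.dvd.mul_left (h2.mul_left n) 4)).mp a

theorem Data.p_dvd_q : p ∣ q := by
  obtain ⟨f, hf⟩ := h.hpow
  rcases f with _ | f
  · have := h.q5; simp at hf; omega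
  · rw [hf]; exact dvd_pow_self p (Nat.succ_ne_zero f)

theorem Data.p_not_dvd : ¬ p ∣ n ∧ ¬ p ∣ m :=
  ⟨fun hd => h.hp.ne_one (Nat.eq_one_of_dvd_coprimes h.coprime_q.1 h.p_dvd_q hd),
   fun hd => h.hp.ne_one (Nat.eq_one_of_dvd_coprimes h.coprime_q.2 h.p_dvd_q hd)⟩

/-- The order of a nontrivial element lies in one class. -/
theorem Data.order_cases {g : G} (hg : g ≠ 1) :
    orderOf g = p ∨ (orderOf g ∣ n ∧ ¬ orderOf g ∣ m) ∨ (orderOf g ∣ m ∧ ¬ orderOf g ∣ n) := by
  have hne : orderOf g ≠ 1 := mt orderOf_eq_one_iff.mp hg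
  rcases h.order g with e | e | e
  · exact Or.inl (((Nat.dvd_prime h.hp).mp e).resolve_left hne)
  · exact Or.inr (Or.inl ⟨e, fun e' => hne (Nat.eq_one_of_dvd_coprimes h.coprime_nm e e')⟩)
  · exact Or.inr (Or.inr ⟨e, fun e' => hne (Nat.eq_one_of_dvd_coprimes h.coprime_nm e' e)⟩)

/-- Two distinct primes dividing an element order divide both `n` or both `m`. -/
theorem Data.two_primes {g : G} {r r' : ℕ} (hr : r.Prime) (hr' : r'.Prime) (hne : r ≠ r')
    (h1 : r ∣ orderOf g) (h2 : r' ∣ orderOf g) : (r ∣ n ∧ r' ∣ n) ∨ (r ∣ m ∧ r' ∣ m) := by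
  rcases h.order g with e | e | e
  · exact absurd (((Nat.prime_dvd_prime_iff_eq hr h.hp).mp (h1.trans e)).trans
      ((Nat.prime_dvd_prime_iff_eq hr' h.hp).mp (h2.trans e)).symm) hne
  · exact Or.inl ⟨h1.trans e, h2.trans e⟩
  · exact Or.inr ⟨h1.trans e, h2.trans e⟩

variable [Finite G]

/-- The primes of a centraliser stay in one class. -/
theorem Data.cent_prime {a : G} (ha : a ≠ 1) {r : ℕ} (hr : r.Prime)
    (hd : r ∣ Nat.card (Subgroup.centralizer ({a} : Set G))) :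
    (orderOf a = p → r = p) ∧ (orderOf a ∣ n → r ∣ n) ∧ (orderOf a ∣ m → r ∣ m) := by
  have : Fact r.Prime := ⟨hr⟩
  obtain ⟨c, hc⟩ := exists_prime_orderOf_dvd_card' r hd
  set r₀ := (orderOf a).minFac with hr₀
  have hr₀p : r₀.Prime := Nat.minFac_prime (mt orderOf_eq_one_iff.mp ha)
  have hr₀d : r₀ ∣ orderOf a := Nat.minFac_dvd _
  by_cases he : r = r₀
  · subst he
    exact ⟨fun e => (Nat.prime_dvd_prime_iff_eq hr h.hp).mp (e ▸ hr₀d), hr₀d.trans,
      hr₀d.trans⟩
  set b := a ^ (orderOf a / r₀) with hb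
  have hbo : orderOf b = r₀ := orderOf_pow_orderOf_div (orderOf_pos a).ne' hr₀d
  have hco : orderOf (c : G) = r := by rw [Subgroup.orderOf_coe, hc]
  have hcomm : Commute (c : G) b :=
    (show Commute (c : G) a from mem_cent.mp c.2).pow_right _
  have hord : orderOf ((c : G) * b) = r * r₀ := by
    rw [hcomm.orderOf_mul_eq_mul_orderOf_of_coprime (by
      rw [hco, hbo]; exact (Nat.coprime_primes hr hr₀p).mpr he), hco, hbo]
  have hnm : ∀ s : ℕ, s.Prime → s ∣ n → s ∣ m → False := fun s hs a b =>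
    hs.ne_one (Nat.eq_one_of_dvd_coprimes h.coprime_nm a b)
  rcases h.two_primes hr hr₀p he (hord ▸ dvd_mul_right r r₀) (hord ▸ dvd_mul_left r₀ r) with
    ⟨e1, e2⟩ | ⟨e1, e2⟩
  · refine ⟨fun e => ?_, fun _ => e1, fun e => (hnm r₀ hr₀p e2 (hr₀d.trans e)).elim⟩
    exact absurd ((Nat.prime_dvd_prime_iff_eq hr₀p h.hp).mp (e ▸ hr₀d) ▸ e2) h.p_not_dvd.1
  · refine ⟨fun e => ?_, fun e => (hnm r₀ hr₀p (hr₀d.trans e) e2).elim, fun _ => e1⟩
    exact absurd ((Nat.prime_dvd_prime_iff_eq hr₀p h.hp).mp (e ▸ hr₀d) ▸ e2) h.p_not_dvd.2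

theorem Data.cent_n {a : G} (ha : a ≠ 1) (hn : orderOf a ∣ n) :
    Nat.card (Subgroup.centralizer ({a} : Set G)) ∣ 2 * n := by
  have h1 : Nat.card (Subgroup.centralizer ({a} : Set G)) ∣ (q * m) * (2 * n) :=
    (Subgroup.card_subgroup_dvd_card _).trans (dvd_of_eq (by rw [h.card]; ring))
  refine Nat.Coprime.dvd_of_dvd_mul_left (Nat.coprime_of_dvd fun r hr hc hqm => ?_) h1
  have hrn := (h.cent_prime ha hr hc).2.1 hn
  rcases (Nat.Prime.dvd_mul hr).mp hqm with e | e
  · exact hr.ne_one (Nat.eq_one_of_dvd_coprimes h.coprime_q.1 e hrn)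
  · exact hr.ne_one (Nat.eq_one_of_dvd_coprimes h.coprime_nm hrn e)

theorem Data.cent_m {a : G} (ha : a ≠ 1) (hm : orderOf a ∣ m) :
    Nat.card (Subgroup.centralizer ({a} : Set G)) ∣ m := by
  have h1 : Nat.card (Subgroup.centralizer ({a} : Set G)) ∣ (2 * q * n) * m :=
    (Subgroup.card_subgroup_dvd_card _).trans (dvd_of_eq (by rw [h.card]))
  refine Nat.Coprime.dvd_of_dvd_mul_left (Nat.coprime_of_dvd fun r hr hc hqn => ?_) h1
  have hrm := (h.cent_prime ha hr hc).2.2 hm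
  rcases (Nat.Prime.dvd_mul hr).mp hqn with e | e
  · rcases (Nat.Prime.dvd_mul hr).mp e with e | e
    · have := (Nat.prime_dvd_prime_iff_eq hr Nat.prime_two).mp e
      subst this
      exact Nat.not_even_iff_odd.mpr h.m_odd (even_iff_two_dvd.mpr hrm)
    · exact hr.ne_one (Nat.eq_one_of_dvd_coprimes h.coprime_q.2 e hrm)
  · exact hr.ne_one (Nat.eq_one_of_dvd_coprimes h.coprime_nm e hrm)

theorem Data.cent_p {a : G} (hap : orderOf a = p) :
    Nat.card (Subgroup.centralizer ({a} : Set G)) ∣ q := by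
  have ha : a ≠ 1 := fun e => h.hp.ne_one (by rw [← hap, e, orderOf_one])
  have h1 : Nat.card (Subgroup.centralizer ({a} : Set G)) ∣ (2 * n * m) * q :=
    (Subgroup.card_subgroup_dvd_card _).trans (dvd_of_eq (by rw [h.card]; ring))
  refine Nat.Coprime.dvd_of_dvd_mul_left (Nat.coprime_of_dvd fun r hr hc hd => ?_) h1
  have hrp := (h.cent_prime ha hr hc).1 hap
  subst hrp
  rcases (Nat.Prime.dvd_mul hr).mp hd with e | e
  · rcases (Nat.Prime.dvd_mul hr).mp e with e | e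
    · exact h.p2 ((Nat.prime_dvd_prime_iff_eq hr Nat.prime_two).mp e)
    · exact h.p_not_dvd.1 e
  · exact h.p_not_dvd.2 e

/-- An element of order `m` generates the centraliser of each of its nontrivial powers. -/
theorem Data.cent_m_eq {y a : G} (hy : orderOf y = m) (ha : a ∈ Subgroup.zpowers y) (ha1 : a ≠ 1) :
    Subgroup.centralizer ({a} : Set G) = Subgroup.zpowers y := by
  have hle : Subgroup.zpowers y ≤ Subgroup.centralizer ({a} : Set G) := by
    rw [Subgroup.zpowers_le, mem_cent]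
    obtain ⟨k, rfl⟩ := ha
    exact (Commute.self_zpow y k).eq
  refine (Subgroup.eq_of_le_of_card_ge hle ?_).symm
  rw [Nat.card_zpowers, hy]
  refine Nat.le_of_dvd (by have := h.m_ge; omega) (h.cent_m ha1 ?_)
  rw [← hy]
  exact (Subgroup.orderOf_dvd_natCard _ ha).trans (dvd_of_eq (Nat.card_zpowers y))

/-- Centralisers of involutions have order dividing `2 n`. -/
theorem Data.cent_invol {r : G} (hr : orderOf r = 2) :
    Nat.card (Subgroup.centralizer ({r} : Set G)) ∣ 2 * n :=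
  h.cent_n (fun e => by rw [e, orderOf_one] at hr; omega) (hr ▸ even_iff_two_dvd.mp h.neven)

omit h in
/-- An involution normalising a subgroup of odd order that meets its centraliser trivially
inverts it. -/
theorem inverts_of_fpf {v : G} (hv : orderOf v = 2) {A : Subgroup G} (hA : ∀ a ∈ A, v * a * v⁻¹ ∈ A)
    (hfix : ∀ a ∈ A, v * a = a * v → a = 1) : ∀ a ∈ A, v * a * v⁻¹ = a⁻¹ := by
  have hvv : v * v = 1 := by rw [← pow_two, ← hv, pow_orderOf_eq_one]
  have hv' : v⁻¹ = v := inv_eq_of_mul_eq_one_right hvv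
  -- the map `a ↦ a⁻¹ a^v` is a bijection of `A`
  let f : A → A := fun a => ⟨(a : G)⁻¹ * (v * a * v⁻¹), A.mul_mem (A.inv_mem a.2) (hA a a.2)⟩
  have hf : Function.Injective f := by
    intro a b hab
    have e : (a : G)⁻¹ * (v * a * v⁻¹) = (b : G)⁻¹ * (v * b * v⁻¹) := congrArg Subtype.val hab
    have e1 : (b : G) * (a : G)⁻¹ = v * ((b : G) * (a : G)⁻¹) * v⁻¹ := by
      have h2 := congrArg (fun z => (b : G) * z * (v * (a : G)⁻¹ * v⁻¹)) e
      calc (b : G) * (a : G)⁻¹ = b * ((a : G)⁻¹ * (v * a * v⁻¹)) * (v * (a : G)⁻¹ * v⁻¹) := by group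
        _ = b * ((b : G)⁻¹ * (v * b * v⁻¹)) * (v * (a : G)⁻¹ * v⁻¹) := h2
        _ = v * ((b : G) * (a : G)⁻¹) * v⁻¹ := by group
    have := hfix _ (A.mul_mem b.2 (A.inv_mem a.2)) (eq_mul_inv_iff_mul_eq.mp e1).symm
    exact Subtype.ext (mul_inv_eq_one.mp this).symm
  intro a ha
  obtain ⟨b, hb⟩ := (Finite.injective_iff_surjective.mp hf) ⟨a, ha⟩
  have hb' : (b : G)⁻¹ * (v * b * v⁻¹) = a := congrArg Subtype.val hb
  rw [← hb', hv']
  simp only [mul_inv_rev, inv_inv, hv', mul_assoc]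
  rw [hvv, mul_one]

end CfsgLib.SpecPSL2
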