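import Cfsg.Agent.Lib.SpecPSL2.Count

/-!
# The three parts of the class of `t`
-/

set_option autoImplicit false
set_option linter.style.haveILetI false
set_option linter.unusedSectionVars false

namespace CfsgLib.SpecPSL2

variable {G : Type*} [Group G] [Finite G] {p q n m : ℕ}

theorem isConj_conj {t v : G} (g : G) (hv : IsConj t v) : IsConj t (g * v * g⁻¹) :=
  hv.trans (isConj_iff.mpr ⟨g, rfl⟩)

theorem mem_normalizer_conj {A : Subgroup G} {g v : G} :
    g * v * g⁻¹ ∈ Subgroup.normalizer ((A.map (MulAut.conj g).toMonoidHom : Subgroup G) : Set G) ↔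
      v ∈ Subgroup.normalizer (A : Set G) := by
  have hmem : ∀ x : G, x ∈ A.map (MulAut.conj g).toMonoidHom ↔ g⁻¹ * x * g ∈ A := by
    intro x
    constructor
    · rintro ⟨a, ha, rfl⟩
      show g⁻¹ * (g * a * g⁻¹) * g ∈ A
      rwa [show g⁻¹ * (g * a * g⁻¹) * g = a by group]
    · exact fun hx => ⟨_, hx, by show g * (g⁻¹ * x * g) * g⁻¹ = x; group⟩
  simp only [Subgroup.mem_normalizer_iff, hmem]
  constructor
  · intro hh a
    have := hh (g * a * g⁻¹)
    rwa [show g⁻¹ * (g * a * g⁻¹) * g = a by group,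
      show g⁻¹ * (g * v * g⁻¹ * (g * a * g⁻¹) * (g * v * g⁻¹)⁻¹) * g = v * a * v⁻¹ by group]
      at this
  · intro hh x
    have := hh (g⁻¹ * x * g)
    rwa [show v * (g⁻¹ * x * g) * v⁻¹ = g⁻¹ * (g * v * g⁻¹ * x * (g * v * g⁻¹)⁻¹) * g by group]
      at this

/-- Double counting the pairs (conjugate of `t`, conjugate of `A` normalised by it). -/
theorem pairs_bound {t : G} (A : Subgroup G)
    (hA : ∀ v v' : G, IsConj t v → IsConj t v' → v ∈ Subgroup.normalizer (A : Set G) →
      v' ∈ Subgroup.normalizer (A : Set G) → v * v' ∈ A) :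
    Nat.card {u : G // IsConj t u} *
        Nat.card {Y : Subgroup G // (∃ g : G, Y = A.map (MulAut.conj g).toMonoidHom) ∧
          t ∈ Subgroup.normalizer (Y : Set G)} * Nat.card (Subgroup.normalizer (A : Set G)) ≤
      Nat.card G * Nat.card A := by
  classical
  haveI := Fintype.ofFinite G
  set C : Type _ := {Y : Subgroup G // ∃ g : G, Y = A.map (MulAut.conj g).toMonoidHom} with hC
  set J : Type _ := {u : G // IsConj t u} with hJ
  let W : J → Type _ := fun v => {Y : C // v.1 ∈ Subgroup.normalizer (Y.1 : Set G)}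
  let U : C → Type _ := fun Y => {v : J // v.1 ∈ Subgroup.normalizer (Y.1 : Set G)}
  haveI : Finite (Subgroup G) := Finite.of_injective _ SetLike.coe_injective
  haveI := Fintype.ofFinite C
  haveI := Fintype.ofFinite J
  have hW : ∀ v : J, Nat.card (W v) =
      Nat.card {Y : Subgroup G // (∃ g : G, Y = A.map (MulAut.conj g).toMonoidHom) ∧
          t ∈ Subgroup.normalizer (Y : Set G)} := by
    rintro ⟨v, hv⟩
    obtain ⟨c, rfl⟩ := isConj_iff.mp hv
    refine (Nat.card_congr (Equiv.ofBijective (fun Y =>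
      (⟨⟨Y.1.map (MulAut.conj c).toMonoidHom, ?_⟩, mem_normalizer_conj.mpr Y.2.2⟩ : W ⟨_, hv⟩))
      ⟨?_, ?_⟩)).symm
    · obtain ⟨g, hg⟩ := Y.2.1
      refine ⟨c * g, ?_⟩
      rw [hg, Subgroup.map_map]
      congr 1
      ext x
      simp [mul_assoc]
    · intro Y Y' e
      exact Subtype.ext (Subgroup.map_injective (MulAut.conj c).injective
        (congrArg (fun Z : W ⟨_, hv⟩ => Z.1.1) e))
    · rintro ⟨⟨Z, g, hg⟩, hZ⟩
      have e : (Z.map (MulAut.conj c⁻¹).toMonoidHom).map (MulAut.conj c).toMonoidHom = Z := by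
        rw [Subgroup.map_map]
        convert Subgroup.map_id Z
        ext x
        simp [mul_assoc]
      refine ⟨⟨Z.map (MulAut.conj c⁻¹).toMonoidHom, ⟨c⁻¹ * g, ?_⟩, ?_⟩, Subtype.ext (Subtype.ext e)⟩
      · rw [hg, Subgroup.map_map]
        congr 1
        ext x
        simp [mul_assoc]
      · have := (mem_normalizer_conj (g := c⁻¹)).mpr hZ
        rwa [show c⁻¹ * (c * t * c⁻¹) * c⁻¹⁻¹ = t by group] at this
  have hU : ∀ Y : C, Nat.card (U Y) ≤ Nat.card A := by
    rintro ⟨Y, g, rfl⟩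
    rcases isEmpty_or_nonempty (U ⟨_, g, rfl⟩) with he | ⟨⟨v, hv⟩⟩
    · rw [Nat.card_of_isEmpty]; exact Nat.zero_le _
    have hmem : ∀ w : U ⟨_, g, rfl⟩, (g⁻¹ * w.1.1 * g) ∈ Subgroup.normalizer (A : Set G) := by
      intro w
      refine (mem_normalizer_conj (g := g)).mp ?_
      rw [show g * (g⁻¹ * w.1.1 * g) * g⁻¹ = w.1.1 by group]
      exact w.2
    have hcj : ∀ w : G, IsConj t w → IsConj t (g⁻¹ * w * g) := fun w hw => by
      have := isConj_conj g⁻¹ hw; rwa [inv_inv] at this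
    refine Nat.card_le_card_of_injective (fun w : U ⟨_, g, rfl⟩ =>
      (⟨(g⁻¹ * v.1 * g) * (g⁻¹ * w.1.1 * g),
        hA _ _ (hcj _ v.2) (hcj _ w.1.2) (hmem ⟨v, hv⟩) (hmem w)⟩ : A)) fun w w' e => ?_
    exact Subtype.ext (Subtype.ext
      (mul_left_cancel (mul_right_cancel (mul_left_cancel (congrArg Subtype.val e)))))
  have e1 : Nat.card (Σ v : J, W v) = Nat.card (Σ Y : C, U Y) :=
    Nat.card_congr
      { toFun := fun x => ⟨x.2.1, ⟨x.1, x.2.2⟩⟩
        invFun := fun x => ⟨x.2.1, ⟨x.1, x.2.2⟩⟩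
        left_inv := fun _ => rfl
        right_inv := fun _ => rfl }
  rw [Nat.card_sigma, Nat.card_sigma, Finset.sum_congr rfl (fun v _ => hW v), Finset.sum_const,
    Finset.card_univ, ← Nat.card_eq_fintype_card, smul_eq_mul] at e1
  have e2 : Nat.card C * Nat.card (Subgroup.normalizer (A : Set G)) = Nat.card G := by
    rw [mul_comm]
    convert (Subgroup.normalizer (A : Set G)).card_mul_index using 2
    rw [Subgroup.index_eq_card]
    refine (Nat.card_congr (Equiv.ofBijective (Quotient.lift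
      (fun g : G => (⟨A.map (MulAut.conj g).toMonoidHom, g, rfl⟩ : C)) ?_) ⟨?_, ?_⟩)).symm
    · intro a b hab
      have hab' := QuotientGroup.leftRel_apply.mp hab
      refine Subtype.ext (Subgroup.ext fun x => ?_)
      have key : ∀ g x : G, x ∈ A.map (MulAut.conj g).toMonoidHom ↔ g⁻¹ * x * g ∈ A := by
        intro g x
        constructor
        · rintro ⟨w, hw, rfl⟩
          show g⁻¹ * (g * w * g⁻¹) * g ∈ A
          rwa [show g⁻¹ * (g * w * g⁻¹) * g = w by group]
        · exact fun hx => ⟨_, hx, by show g * (g⁻¹ * x * g) * g⁻¹ = x; group⟩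
      rw [key a, key b, Subgroup.mem_normalizer_iff.mp hab' (b⁻¹ * x * b),
        show a⁻¹ * b * (b⁻¹ * x * b) * (a⁻¹ * b)⁻¹ = a⁻¹ * x * a by group]
    · intro x y
      induction x using Quotient.inductionOn with
      | _ a =>
        induction y using Quotient.inductionOn with
        | _ b =>
          intro e
          have e' : A.map (MulAut.conj a).toMonoidHom = A.map (MulAut.conj b).toMonoidHom :=
            congrArg Subtype.val e
          refine Quotient.sound (QuotientGroup.leftRel_apply.mpr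
            (Subgroup.mem_normalizer_iff.mpr fun c => ?_))
          have h1 := SetLike.ext_iff.mp e' (b * c * b⁻¹)
          constructor
          · intro hc
            obtain ⟨w, hw, hwe⟩ := h1.mpr ⟨c, hc, rfl⟩
            have hwe' : a * w * a⁻¹ = b * c * b⁻¹ := hwe
            rw [show a⁻¹ * b * c * (a⁻¹ * b)⁻¹ = a⁻¹ * (b * c * b⁻¹) * a by group, ← hwe',
              show a⁻¹ * (a * w * a⁻¹) * a = w by group]
            exact hw
          · intro hc
            obtain ⟨w, hw, hwe⟩ := h1.mp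
              ⟨_, hc, by show a * (a⁻¹ * b * c * (a⁻¹ * b)⁻¹) * a⁻¹ = b * c * b⁻¹; group⟩
            have hwe' : b * w * b⁻¹ = b * c * b⁻¹ := hwe
            exact (mul_left_cancel (mul_right_cancel hwe')) ▸ hw
    · rintro ⟨Y, g, rfl⟩
      exact ⟨Quotient.mk'' g, rfl⟩
  calc Nat.card J * _ * Nat.card (Subgroup.normalizer (A : Set G))
      = (∑ Y : C, Nat.card (U Y)) * Nat.card (Subgroup.normalizer (A : Set G)) := by rw [e1]
    _ ≤ (∑ _Y : C, Nat.card A) * Nat.card (Subgroup.normalizer (A : Set G)) :=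
        Nat.mul_le_mul_right _ (Finset.sum_le_sum fun Y _ => hU Y)
    _ = Nat.card G * Nat.card A := by
        rw [Finset.sum_const, Finset.card_univ, ← Nat.card_eq_fintype_card, smul_eq_mul, ← e2]
        ring

/-- A set covered by translates of the nontrivial parts of subgroups of order `k`. -/
theorem ncard_le_cover {t : G} {S : Set G} {k : ℕ} (P : Subgroup G → Prop)
    (hk : ∀ Y, P Y → Nat.card Y = k)
    (hS : ∀ u ∈ S, ∃ Y, P Y ∧ t * u ∈ Y ∧ t * u ≠ 1) (htt : t * t = 1) :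
    S.ncard ≤ Nat.card {Y // P Y} * (k - 1) := by
  classical
  haveI := Fintype.ofFinite G
  haveI : Finite (Subgroup G) := Finite.of_injective _ SetLike.coe_injective
  haveI := Fintype.ofFinite {Y // P Y}
  choose f hf1 hf2 hf3 using hS
  let g : S → Σ Y : {Y // P Y}, {a : Y.1 // a ≠ 1} := fun u =>
    ⟨⟨f u.1 u.2, hf1 _ u.2⟩, ⟨⟨t * u.1, hf2 _ u.2⟩, fun e => hf3 _ u.2 (congrArg Subtype.val e)⟩⟩
  have hg : Function.Injective g := by
    intro u v e
    have e' := congrArg (fun z : Σ Y : {Y // P Y}, {a : Y.1 // a ≠ 1} => t * ((z.2.1 : G))) e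
    simp only [g, ← mul_assoc, htt, one_mul] at e'
    exact Subtype.ext e'
  have := Nat.card_le_card_of_injective g hg
  rw [Nat.card_coe_set_eq, Nat.card_sigma] at this
  refine this.trans (le_of_eq ?_)
  have hY : ∀ Y : {Y // P Y}, Nat.card {a : Y.1 // a ≠ 1} = k - 1 := fun Y => by
    haveI := Fintype.ofFinite Y.1
    rw [← hk Y.1 Y.2, Nat.card_eq_fintype_card, Fintype.card_subtype_compl, Fintype.card_subtype_eq,
      Nat.card_eq_fintype_card]
  rw [Finset.sum_congr rfl (fun Y _ => hY Y), Finset.sum_const, Finset.card_univ,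
    ← Nat.card_eq_fintype_card, smul_eq_mul]

variable (h : Data G p q n m)

include h

/-- Two involutions inverting an element of order `m` differ by an element of its subgroup. -/
theorem Data.inv_m {y v : G} (hy : orderOf y = m) (hv : orderOf v = 2)
    (hN : v ∈ Subgroup.normalizer ((Subgroup.zpowers y : Subgroup G) : Set G)) :
    v * y * v⁻¹ = y⁻¹ :=
  h.inverts hv (fun a ha => (Subgroup.mem_normalizer_iff.mp hN a).mp ha)
    (by rw [Nat.card_zpowers, hy]
        exact Nat.Coprime.mul_right (Nat.coprime_two_right.mpr h.m_odd) h.coprime_nm.symm)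
    y (Subgroup.mem_zpowers y)

/-- The part of order dividing `m`. -/
theorem Data.bound_m {y t : G} (hy : orderOf y = m) (ht : orderOf t = 2)
    (hC : Nat.card (Subgroup.centralizer ({t} : Set G)) = 2 * n) {d : ℕ}
    (hd : ∀ v : G, IsConj t v → v ∈ Subgroup.normalizer ((Subgroup.zpowers y : Subgroup G) : Set G) →
      d * m ∣ Nat.card (Subgroup.normalizer ((Subgroup.zpowers y : Subgroup G) : Set G))) :
    d * {u : G | IsConj t u ∧ u ≠ t ∧ orderOf (t * u) ∣ m}.ncard ≤ 2 * n * (m - 1) := by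
  classical
  have htt : t * t = 1 := by rw [← pow_two, ← ht, pow_orderOf_eq_one]
  have hm0 := h.m_ge
  set A := Subgroup.zpowers y with hA
  set S := {u : G | IsConj t u ∧ u ≠ t ∧ orderOf (t * u) ∣ m} with hSdef
  set N := Nat.card (Subgroup.normalizer (A : Set G)) with hN
  have hy1 : y ≠ 1 := fun e => by rw [e, orderOf_one] at hy; omega
  have hp := pairs_bound (t := t) A (fun v v' hv hv' hvN hv'N => by
    have e1 := h.inv_m hy ((conj_orderOf hv).trans ht) hvN
    have e2 := h.inv_m hy ((conj_orderOf hv').trans ht) hv'N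
    rw [hA, ← h.cent_m_eq hy (Subgroup.mem_zpowers y) hy1]
    refine mem_cent.mpr ?_
    calc v * v' * y = v * (v' * y * v'⁻¹) * v' := by group
      _ = v * y⁻¹ * v⁻¹ * (v * v') := by rw [e2]; group
      _ = y * (v * v') := by rw [← conj_inv, e1, inv_inv])
  rw [h.card_class hC, hA, Nat.card_zpowers, hy, h.card, ← hA] at hp
  set P := fun Y : Subgroup G => (∃ g : G, Y = A.map (MulAut.conj g).toMonoidHom) ∧
    t ∈ Subgroup.normalizer (Y : Set G) with hP
  have hk : ∀ Y, P Y → Nat.card Y = m := by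
    rintro Y ⟨⟨g, rfl⟩, -⟩
    rw [Subgroup.card_map_of_injective (MulAut.conj g).injective, hA, Nat.card_zpowers, hy]
  have hmap : ∀ g : G, A.map (MulAut.conj g).toMonoidHom = Subgroup.zpowers (g * y * g⁻¹) :=
    fun g => by rw [hA, MonoidHom.map_zpowers]; rfl
  have hcov : ∀ u ∈ S, ∃ Y, P Y ∧ t * u ∈ Y ∧ t * u ≠ 1 := by
    rintro u ⟨hu, hut, hum⟩
    set a := t * u with ha
    have ha1 : a ≠ 1 := fun e => hut (by
      have := congrArg (fun w => t * w) e
      rwa [ha, ← mul_assoc, htt, one_mul, mul_one] at this)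
    have hr0p : (orderOf a).minFac.Prime := Nat.minFac_prime (mt orderOf_eq_one_iff.mp ha1)
    have hr0d := Nat.minFac_dvd (orderOf a)
    have hodd : (orderOf a).minFac ≠ 2 := fun e => Nat.not_even_iff_odd.mpr h.m_odd
      (even_iff_two_dvd.mpr (e ▸ hr0d.trans hum))
    have hzo := orderOf_pow_orderOf_div (orderOf_pos a).ne' hr0d
    obtain ⟨g, hg⟩ := h.conj_into hy (Or.inl rfl) hr0p hodd (hr0d.trans hum) hzo
    have hy' : orderOf (g * y * g⁻¹) = m :=
      (MulEquiv.orderOf_eq (MulAut.conj g) y).trans hy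
    have hz1 : a ^ (orderOf a / (orderOf a).minFac) ≠ 1 := fun e => hr0p.ne_one
      (by rw [← hzo, e, orderOf_one])
    have haY : a ∈ Subgroup.zpowers (g * y * g⁻¹) := by
      rw [← h.cent_m_eq hy' hg hz1]
      exact mem_cent.mpr (Commute.self_pow a _).eq
    refine ⟨Subgroup.zpowers (g * y * g⁻¹), ⟨⟨g, (hmap g).symm⟩, ?_⟩, haY, ha1⟩
    have htiu : t * a * t⁻¹ = a⁻¹ := by
      have hti : t⁻¹ = t := inv_eq_of_mul_eq_one_right htt
      have huu : u * u = 1 := by rw [← pow_two, ← ht, ← conj_orderOf hu, pow_orderOf_eq_one]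
      rw [ha, mul_inv_rev, inv_eq_of_mul_eq_one_right huu, ← mul_assoc t t u, htt, one_mul]
    have hCa := h.cent_m_eq hy' haY ha1
    refine Subgroup.mem_normalizer_fintype fun c hc => ?_
    rw [SetLike.mem_coe, ← hCa, mem_cent] at hc ⊢
    have e2 : t * a⁻¹ * t⁻¹ = a := by rw [← conj_inv, htiu, inv_inv]
    calc t * c * t⁻¹ * a = t * c * t⁻¹ * (t * a⁻¹ * t⁻¹) := by rw [e2]
      _ = t * (c * a⁻¹) * t⁻¹ := by group
      _ = t * (a⁻¹ * c) * t⁻¹ := by rw [(show Commute c a⁻¹ from Commute.inv_right hc).eq]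
      _ = (t * a⁻¹ * t⁻¹) * (t * c * t⁻¹) := by group
      _ = a * (t * c * t⁻¹) := by rw [e2]
  have hle := ncard_le_cover P hk hcov htt
  rcases S.eq_empty_or_nonempty with he | ⟨u, hu⟩
  · rw [he, Set.ncard_empty, mul_zero]; exact Nat.zero_le _
  obtain ⟨Y, ⟨⟨g, hY⟩, htY⟩, -⟩ := hcov u hu
  subst hY
  have hdN : d * m ∣ N := hd (g⁻¹ * t * g) (by
      have := isConj_conj g⁻¹ (IsConj.refl t); rwa [inv_inv] at this) (by
    refine (mem_normalizer_conj (g := g)).mp ?_
    rwa [show g * (g⁻¹ * t * g) * g⁻¹ = t by group])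
  have hdm := Nat.le_of_dvd Nat.card_pos hdN
  have hq0 := h.q5
  have h1 : (Nat.card {Y // P Y} * (d * m)) * (q * m) ≤ (2 * n * m) * (q * m) := by
    calc (Nat.card {Y // P Y} * (d * m)) * (q * m) ≤ (Nat.card {Y // P Y} * N) * (q * m) := by gcongr
      _ = q * m * Nat.card {Y // P Y} * N := by ring
      _ ≤ 2 * q * n * m * m := hp
      _ = (2 * n * m) * (q * m) := by ring
  have h2 := Nat.le_of_mul_le_mul_right h1 (by positivity)
  have h3 : d * Nat.card {Y // P Y} ≤ 2 * n := by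
    refine Nat.le_of_mul_le_mul_right ?_ (by omega : 0 < m)
    linarith [h2]
  calc d * S.ncard ≤ d * (Nat.card {Y // P Y} * (m - 1)) := Nat.mul_le_mul_left d hle
    _ = (d * Nat.card {Y // P Y}) * (m - 1) := (mul_assoc _ _ _).symm
    _ ≤ 2 * n * (m - 1) := Nat.mul_le_mul_right _ h3

/-- The part of order `p`. -/
theorem Data.bound_p {t : G} (ht : orderOf t = 2)
    (hC : Nat.card (Subgroup.centralizer ({t} : Set G)) = 2 * n) :
    {u : G | IsConj t u ∧ u ≠ t ∧ orderOf (t * u) = p}.ncard ≤ 4 * n ∧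
      ({u : G | IsConj t u ∧ u ≠ t ∧ orderOf (t * u) = p}.ncard ≠ 0 → q = 2 * n + 1) := by
  classical
  haveI : Fact p.Prime := ⟨h.hp⟩
  have htt : t * t = 1 := by rw [← pow_two, ← ht, pow_orderOf_eq_one]
  have hti : t⁻¹ = t := inv_eq_of_mul_eq_one_right htt
  set S := {u : G | IsConj t u ∧ u ≠ t ∧ orderOf (t * u) = p} with hSdef
  rcases S.eq_empty_or_nonempty with he | ⟨u₀, hu₀⟩
  · rw [he, Set.ncard_empty]; exact ⟨Nat.zero_le _, fun e => absurd rfl e⟩
  have hinv : ∀ u ∈ S, t * (t * u) * t⁻¹ = (t * u)⁻¹ := by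
    rintro u ⟨hu, -, -⟩
    have huu : u * u = 1 := by rw [← pow_two, ← ht, ← conj_orderOf hu, pow_orderOf_eq_one]
    rw [mul_inv_rev, inv_eq_of_mul_eq_one_right huu, ← mul_assoc t t u, htt, one_mul]
  obtain ⟨hTI, hAq, hN⟩ := h.real_p hu₀.2.2 ht (hinv u₀ hu₀)
  set A := Subgroup.centralizer ({t * u₀} : Set G) with hA
  have hnorm : ∀ a : G, t * a * t⁻¹ = a⁻¹ →
      t ∈ Subgroup.normalizer ((Subgroup.centralizer ({a} : Set G) : Subgroup G) : Set G) := by
    intro a htiu
    refine Subgroup.mem_normalizer_fintype fun c hc => ?_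
    rw [SetLike.mem_coe, mem_cent] at hc ⊢
    have e2 : t * a⁻¹ * t⁻¹ = a := by rw [← conj_inv, htiu, inv_inv]
    calc t * c * t⁻¹ * a = t * c * t⁻¹ * (t * a⁻¹ * t⁻¹) := by rw [e2]
      _ = t * (c * a⁻¹) * t⁻¹ := by group
      _ = t * (a⁻¹ * c) * t⁻¹ := by rw [(show Commute c a⁻¹ from Commute.inv_right hc).eq]
      _ = (t * a⁻¹ * t⁻¹) * (t * c * t⁻¹) := by group
      _ = a * (t * c * t⁻¹) := by rw [e2]
  have hp := pairs_bound (t := t) A (fun v v' hv hv' hvN hv'N => by
    have hcop : (Nat.card A).Coprime (2 * n) := by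
      rw [hAq]; exact Nat.Coprime.mul_right (Nat.coprime_two_right.mpr h.q_odd) h.coprime_q.1
    have e1 := h.inverts ((conj_orderOf hv).trans ht)
      (fun a ha => (Subgroup.mem_normalizer_iff.mp hvN a).mp ha) hcop
    have e2 := h.inverts ((conj_orderOf hv').trans ht)
      (fun a ha => (Subgroup.mem_normalizer_iff.mp hv'N a).mp ha) hcop
    have haA : t * u₀ ∈ A := mem_cent.mpr rfl
    refine mem_cent.mpr ?_
    calc v * v' * (t * u₀) = v * (v' * (t * u₀) * v'⁻¹) * v' := by group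
      _ = v * (t * u₀)⁻¹ * v⁻¹ * (v * v') := by rw [e2 _ haA]; group
      _ = (t * u₀) * (v * v') := by rw [← conj_inv, e1 _ haA, inv_inv])
  rw [h.card_class hC, hAq, h.card] at hp
  set N := Nat.card (Subgroup.normalizer (A : Set G)) with hNdef
  set P := fun Y : Subgroup G => (∃ g : G, Y = A.map (MulAut.conj g).toMonoidHom) ∧
    t ∈ Subgroup.normalizer (Y : Set G) with hP
  have hk : ∀ Y, P Y → Nat.card Y = q := by
    rintro Y ⟨⟨g, rfl⟩, -⟩
    rw [Subgroup.card_map_of_injective (MulAut.conj g).injective, hAq]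
  have hq0 := h.q5
  have hpow : q = p ^ (Nat.card G).factorization p := h.factorization_p.symm
  have hcov : ∀ u ∈ S, ∃ Y, P Y ∧ t * u ∈ Y ∧ t * u ≠ 1 := by
    intro u hu
    obtain ⟨-, hBq, -⟩ := h.real_p hu.2.2 ht (hinv u hu)
    set B := Subgroup.centralizer ({t * u} : Set G) with hB
    let SA : Sylow p G := Sylow.ofCard A (hAq.trans hpow)
    let SB : Sylow p G := Sylow.ofCard B (hBq.trans hpow)
    obtain ⟨g, hg⟩ := MulAction.exists_smul_eq G SA SB
    refine ⟨B, ⟨⟨g, ?_⟩, hnorm _ (hinv u hu)⟩, mem_cent.mpr rfl, fun e => hu.2.1 (by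
      have := congrArg (fun w => t * w) e
      rwa [← mul_assoc, htt, one_mul, mul_one] at this)⟩
    have := congrArg (fun S : Sylow p G => (S : Subgroup G)) hg
    rw [Sylow.coe_subgroup_smul] at this
    exact this.symm
  have hle := ncard_le_cover P hk hcov htt
  refine ⟨?_, fun _ => ?_⟩
  · have h1 : (Nat.card {Y // P Y} * (q * (q - 1))) * (q * m) ≤ (4 * n * q) * (q * m) := by
      rw [← hN]
      calc (Nat.card {Y // P Y} * (2 * N)) * (q * m)
          = 2 * (q * m * Nat.card {Y // P Y} * N) := by ring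
        _ ≤ 2 * (2 * q * n * m * q) := Nat.mul_le_mul_left 2 hp
        _ = (4 * n * q) * (q * m) := by ring
    have hm0 := h.m_ge
    have h2 := Nat.le_of_mul_le_mul_right h1 (by positivity)
    have h3 : Nat.card {Y // P Y} * (q - 1) ≤ 4 * n := by
      refine Nat.le_of_mul_le_mul_right ?_ (by omega : 0 < q)
      calc Nat.card {Y // P Y} * (q - 1) * q = Nat.card {Y // P Y} * (q * (q - 1)) := by ring
        _ ≤ 4 * n * q := h2
    exact hle.trans h3
  · rcases h.rel with ⟨e, -⟩ | ⟨e1, e2⟩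
    · exact e
    exfalso
    have h2 : 2 ∣ N := ht ▸ Subgroup.orderOf_dvd_natCard _ (hnorm _ (hinv u₀ hu₀))
    have h4 : 4 ∣ q * (q - 1) := hN ▸ Nat.mul_dvd_mul_left 2 h2
    have h5 : 4 ∣ q - 1 := (Nat.Coprime.pow_left 2
      (Nat.coprime_two_left.mpr h.q_odd)).dvd_of_dvd_mul_left h4
    obtain ⟨j, hj⟩ := h.neven
    omega

/-- The part of order dividing `n`. -/
theorem Data.bound_n {x t : G} (hx : orderOf x = n) (ht : orderOf t = 2)
    (htx : t ∈ Subgroup.zpowers x) (H : Subgroup G) [H.Normal] (htH : t ∈ H) {k : ℕ}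
    (hk : ∀ r ∈ H, orderOf r = 2 → r * t = t * r → r ≠ t →
      {u : G | IsConj t u ∧ u * r = r * u ∧ u ≠ t ∧ u ≠ r}.ncard ≤ k) :
    {u : G | IsConj t u ∧ u ≠ t ∧ orderOf (t * u) ∣ n}.ncard ≤
      {r : G | r ∈ H ∧ orderOf r = 2 ∧ r * t = t * r ∧ r ≠ t}.ncard * k := by
  classical
  haveI := Fintype.ofFinite G
  have htt : t * t = 1 := by rw [← pow_two, ← ht, pow_orderOf_eq_one]
  set R := {r : G | r ∈ H ∧ orderOf r = 2 ∧ r * t = t * r ∧ r ≠ t} with hR
  have hsub : {u : G | IsConj t u ∧ u ≠ t ∧ orderOf (t * u) ∣ n} ⊆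
      ↑(R.toFinset.biUnion fun r => {u : G | IsConj t u ∧ u * r = r * u ∧ u ≠ t ∧ u ≠ r}.toFinset) := by
    rintro u ⟨hu, hut, hun⟩
    have huu : u * u = 1 := by rw [← pow_two, ← ht, ← conj_orderOf hu, pow_orderOf_eq_one]
    have huH : u ∈ H := by
      obtain ⟨g, rfl⟩ := isConj_iff.mp hu
      exact (inferInstance : H.Normal).conj_mem t htH g
    have hta : t * (t * u) = u := by rw [← mul_assoc, htt, one_mul]
    have hinv : t * (t * u) * t⁻¹ = (t * u)⁻¹ := by
      rw [mul_inv_rev, inv_eq_of_mul_eq_one_right huu, hta]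
    obtain ⟨r, hrH, hr2, hrt, hrt', hra, hne, heq⟩ := h.exists_r hx ht htx htH (H.mul_mem htH huH)
      (fun e => hut (by rw [← hta, e, mul_one]))
      (fun e => by
        have := conj_orderOf hu
        rw [mul_eq_left.mp e, orderOf_one, ht] at this
        omega)
      hinv hun
    rw [Finset.coe_biUnion, Set.mem_iUnion₂]
    refine ⟨r, by simp [hR, hrH, hr2, hrt, hrt'], ?_⟩
    simp only [Set.coe_toFinset, Set.mem_setOf_eq]
    refine ⟨hu, ?_, hut, fun e => ?_⟩
    · rw [← hta]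
      calc t * (t * u) * r = t * (r * (t * u)) := by rw [mul_assoc, hra]
        _ = r * (t * (t * u)) := by rw [← mul_assoc, ← hrt, mul_assoc]
    · by_cases h2 : orderOf (t * u) = 2
      · have e2 : u = t * u := e.trans (heq h2)
        have e3 : t = 1 := mul_eq_right.mp e2.symm
        rw [e3, orderOf_one] at ht; omega
      · exact hne h2 (e.symm.trans hta.symm)
  refine (Set.ncard_le_ncard hsub (Finset.finite_toSet _)).trans ?_
  rw [Set.ncard_coe_finset, Set.ncard_eq_toFinset_card' R]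
  refine Finset.card_biUnion_le_card_mul _ _ _ fun r hr => ?_
  obtain ⟨hrH, hr2, hrt, hrt'⟩ := Set.mem_toFinset.mp hr
  rw [← Set.ncard_eq_toFinset_card']
  exact hk r hrH hr2 hrt hrt'

/-- The class of `t` splits into three parts. -/
theorem Data.class_split {t : G} (ht : orderOf t = 2)
    (hC : Nat.card (Subgroup.centralizer ({t} : Set G)) = 2 * n) :
    q * m ≤ 1 + {u : G | IsConj t u ∧ u ≠ t ∧ orderOf (t * u) ∣ m}.ncard +
      {u : G | IsConj t u ∧ u ≠ t ∧ orderOf (t * u) = p}.ncard +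
      {u : G | IsConj t u ∧ u ≠ t ∧ orderOf (t * u) ∣ n}.ncard := by
  classical
  have htt : t * t = 1 := by rw [← pow_two, ← ht, pow_orderOf_eq_one]
  rw [← h.card_class hC]
  refine le_of_eq_of_le (Nat.card_coe_set_eq {u : G | IsConj t u}) ?_
  refine (Set.ncard_le_ncard (t := (({t} ∪ {u : G | IsConj t u ∧ u ≠ t ∧ orderOf (t * u) ∣ m}) ∪
    {u : G | IsConj t u ∧ u ≠ t ∧ orderOf (t * u) = p}) ∪
    {u : G | IsConj t u ∧ u ≠ t ∧ orderOf (t * u) ∣ n}) ?_ (Set.toFinite _)).trans ?_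
  · intro u hu
    by_cases hut : u = t
    · exact Or.inl (Or.inl (Or.inl hut))
    have h1 : t * u ≠ 1 := fun e => hut (by
      have := congrArg (fun w => t * w) e
      rwa [← mul_assoc, htt, one_mul, mul_one] at this)
    rcases h.order_cases h1 with e | ⟨e, -⟩ | ⟨e, -⟩
    · exact Or.inl (Or.inr ⟨hu, hut, e⟩)
    · exact Or.inr ⟨hu, hut, e⟩
    · exact Or.inl (Or.inl (Or.inr ⟨hu, hut, e⟩))
  · refine (Set.ncard_union_le _ _).trans (Nat.add_le_add_right ?_ _)
    refine (Set.ncard_union_le _ _).trans (Nat.add_le_add_right ?_ _)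
    refine (Set.ncard_union_le _ _).trans ?_
    rw [Set.ncard_singleton]

end CfsgLib.SpecPSL2
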