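import Cfsg.Agent.Lib.SpecPSL2.Invol

/-!
# Counting the conjugates of a central involution `t`

A conjugate `u ≠ t` gives `t u`, inverted by `t`, whose order divides `m`, `p` or `n`; in the last
case `u` centralises an involution of the centraliser of `t` other than `t`.
-/

set_option autoImplicit false
set_option linter.style.haveILetI false
set_option linter.unusedSectionVars false

namespace CfsgLib.SpecPSL2

open MulAction

variable {G : Type*} [Group G] [Finite G] {p q n m : ℕ} (h : Data G p q n m)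

include h

theorem Data.card_class {t : G} (hC : Nat.card (Subgroup.centralizer ({t} : Set G)) = 2 * n) :
    Nat.card {u : G // IsConj t u} = q * m := by
  have e1 : Nat.card {u : G // IsConj t u} = (Subgroup.centralizer ({t} : Set G)).index := by
    rw [Subgroup.index_eq_card]
    refine (Nat.card_congr (Equiv.ofBijective
      (Quotient.lift (fun g : G => (⟨g * t * g⁻¹, isConj_iff.mpr ⟨g, rfl⟩⟩ : {u : G // IsConj t u}))
        ?_) ⟨?_, ?_⟩)).symm
    · intro a b hab
      have hab' := QuotientGroup.leftRel_apply.mp hab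
      refine Subtype.ext ?_
      calc a * t * a⁻¹ = a * (t * (a⁻¹ * b)) * b⁻¹ := by group
        _ = a * ((a⁻¹ * b) * t) * b⁻¹ := by rw [mem_cent.mp hab']
        _ = b * t * b⁻¹ := by group
    · intro x y
      induction x using Quotient.inductionOn with
      | _ a =>
        induction y using Quotient.inductionOn with
        | _ b =>
          intro e
          have e' : a * t * a⁻¹ = b * t * b⁻¹ := congrArg Subtype.val e
          refine Quotient.sound (QuotientGroup.leftRel_apply.mpr (mem_cent.mpr ?_))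
          calc a⁻¹ * b * t = a⁻¹ * (b * t * b⁻¹) * b := by group
            _ = a⁻¹ * (a * t * a⁻¹) * b := by rw [e']
            _ = t * (a⁻¹ * b) := by group
    · rintro ⟨u, hu⟩
      obtain ⟨g, hg⟩ := isConj_iff.mp hu
      exact ⟨Quotient.mk'' g, Subtype.ext hg⟩
  have e2 := (Subgroup.centralizer ({t} : Set G)).card_mul_index
  rw [hC, h.card] at e2
  rw [e1]
  have := h.n_pos
  refine Nat.eq_of_mul_eq_mul_left (by omega : 0 < 2 * n) ?_
  rw [e2]; ring

omit h in
theorem conj_orderOf {t u : G} (hu : IsConj t u) : orderOf u = orderOf t := by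
  obtain ⟨g, rfl⟩ := isConj_iff.mp hu
  exact MulEquiv.orderOf_eq (MulAut.conj g) t

/-- A nontrivial power of prime order lies in a conjugate of a cyclic subgroup of that class. -/
theorem Data.conj_into {a x : G} {k : ℕ} (hx : orderOf x = k) (hk : k = m ∨ k = n) {r : ℕ}
    (hr : r.Prime) (hr2 : r ≠ 2) (hrk : r ∣ k) (hao : orderOf a = r) :
    ∃ g : G, a ∈ Subgroup.zpowers (g * x * g⁻¹) := by
  haveI := Fact.mk hr
  have hm0 := h.m_ge
  have hn0 := h.n_pos
  have hq0 := h.q5
  have hk0 : k ≠ 0 := by rcases hk with rfl | rfl <;> omega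
  have hfac : (Nat.card G).factorization r = k.factorization r := by
    have hr2' : ¬ r ∣ 2 := fun e => hr2 ((Nat.prime_dvd_prime_iff_eq hr Nat.prime_two).mp e)
    have hrq : ¬ r ∣ q := fun e => by
      rcases hk with rfl | rfl
      · exact hr.ne_one (Nat.eq_one_of_dvd_coprimes h.coprime_q.2 e hrk)
      · exact hr.ne_one (Nat.eq_one_of_dvd_coprimes h.coprime_q.1 e hrk)
    rw [h.card, Nat.factorization_mul (Nat.mul_ne_zero (Nat.mul_ne_zero two_ne_zero (by omega))
      (by omega)) (by omega), Nat.factorization_mul (Nat.mul_ne_zero two_ne_zero (by omega))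
      (by omega), Nat.factorization_mul two_ne_zero (by omega)]
    rcases hk with rfl | rfl
    · have hrn : ¬ r ∣ n := fun e => hr.ne_one (Nat.eq_one_of_dvd_coprimes h.coprime_nm e hrk)
      simp [Nat.factorization_eq_zero_of_not_dvd hr2', Nat.factorization_eq_zero_of_not_dvd hrq,
        Nat.factorization_eq_zero_of_not_dvd hrn]
    · have hrm : ¬ r ∣ m := fun e => hr.ne_one (Nat.eq_one_of_dvd_coprimes h.coprime_nm hrk e)
      simp [Nat.factorization_eq_zero_of_not_dvd hr2', Nat.factorization_eq_zero_of_not_dvd hrq,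
        Nat.factorization_eq_zero_of_not_dvd hrm]
  have hzo : orderOf (x ^ (ordCompl[r] k)) = r ^ k.factorization r := by
    rw [orderOf_pow_of_dvd (Nat.ordCompl_pos r hk0).ne' (hx ▸ Nat.ordCompl_dvd k r), hx]
    exact Nat.div_div_self (Nat.ordProj_dvd k r) hk0
  let S0 : Sylow r G := Sylow.ofCard (Subgroup.zpowers (x ^ (ordCompl[r] k)))
    (by rw [Nat.card_zpowers, hzo, hfac])
  obtain ⟨S, hS⟩ := (IsPGroup.of_card (p := r) (G := Subgroup.zpowers a) (n := 1)
    (by rw [Nat.card_zpowers, hao, pow_one])).exists_le_sylow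
  obtain ⟨g, hg⟩ := MulAction.exists_smul_eq G S0 S
  refine ⟨g, ?_⟩
  have ha : a ∈ ((g • S0 : Sylow r G) : Subgroup G) := hg.symm ▸ hS (Subgroup.mem_zpowers a)
  rw [Sylow.coe_subgroup_smul] at ha
  obtain ⟨b, hb, rfl⟩ := ha
  obtain ⟨j, rfl⟩ := Subgroup.mem_zpowers_iff.mp
    (show b ∈ Subgroup.zpowers (x ^ (ordCompl[r] k)) from hb)
  refine Subgroup.mem_zpowers_iff.mpr ⟨(ordCompl[r] k : ℕ) * j, ?_⟩
  show (g * x * g⁻¹) ^ _ = g * (x ^ (ordCompl[r] k)) ^ j * g⁻¹
  rw [conj_zpow, zpow_mul, zpow_natCast]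

/-- An element of order dividing `n` inverted by `t` centralises an involution commuting with `t`. -/
theorem Data.exists_r {x t : G} (hx : orderOf x = n) (ht : orderOf t = 2)
    (htx : t ∈ Subgroup.zpowers x) {H : Subgroup G} [H.Normal] (htH : t ∈ H) {a : G} (haH : a ∈ H)
    (ha1 : a ≠ 1) (hat : a ≠ t) (hinv : t * a * t⁻¹ = a⁻¹) (han : orderOf a ∣ n) :
    ∃ r ∈ H, orderOf r = 2 ∧ r * t = t * r ∧ r ≠ t ∧ r * a = a * r ∧ (orderOf a ≠ 2 → r ≠ t * a) ∧
      (orderOf a = 2 → r = a) := by
  have htt : t * t = 1 := by rw [← pow_two, ← ht, pow_orderOf_eq_one]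
  have hti : t⁻¹ = t := inv_eq_of_mul_eq_one_right htt
  have hnc : orderOf a ≠ 2 → ¬ a * t = t * a := by
    intro h2 e
    have e' : a⁻¹ = a := by rw [← hinv, ← e, mul_inv_cancel_right]
    exact h2 (orderOf_eq_prime (by rw [pow_two]; exact mul_eq_one_iff_eq_inv.mpr e'.symm) ha1)
  have hne : ∀ r : G, r * a = a * r → orderOf a ≠ 2 → r ≠ t ∧ r ≠ t * a := by
    intro r hra h2
    refine ⟨fun e => hnc h2 (e ▸ hra).symm, fun e => hnc h2 ?_⟩
    rw [e] at hra
    have : t * a * a = a * t * a := hra.trans (mul_assoc a t a).symm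
    exact (mul_right_cancel this).symm
  by_cases he : 2 ∣ orderOf a
  · have hro : orderOf (a ^ (orderOf a / 2)) = 2 := orderOf_pow_orderOf_div (orderOf_pos a).ne' he
    refine ⟨a ^ (orderOf a / 2), H.pow_mem haH _, hro, ?_, ?_, (Commute.pow_self a _).eq,
      fun h2 => (hne _ (Commute.pow_self a _).eq h2).2, fun h2 => by rw [h2, pow_one]⟩
    · have e : t * a ^ (orderOf a / 2) * t⁻¹ = a ^ (orderOf a / 2) := by
        rw [← conj_pow, hinv, inv_pow]
        exact inv_eq_of_mul_eq_one_right (by rw [← pow_two]; exact (congrArg _ hro.symm).trans (pow_orderOf_eq_one _))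
      exact (mul_inv_eq_iff_eq_mul.mp e).symm
    · by_cases h2 : orderOf a = 2
      · rw [h2, pow_one]; exact hat
      · exact (hne _ (Commute.pow_self a _).eq h2).1
  · have h2 : orderOf a ≠ 2 := fun e => he (e ▸ dvd_rfl)
    set r₀ := (orderOf a).minFac with hr₀
    have hr₀p : r₀.Prime := Nat.minFac_prime (mt orderOf_eq_one_iff.mp ha1)
    have hr₀d : r₀ ∣ orderOf a := Nat.minFac_dvd _
    set z := a ^ (orderOf a / r₀) with hz
    have hzo : orderOf z = r₀ := orderOf_pow_orderOf_div (orderOf_pos a).ne' hr₀d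
    obtain ⟨g, hg⟩ := h.conj_into hx (Or.inr rfl) hr₀p (fun e => he (e ▸ hr₀d)) (hr₀d.trans han) hzo
    set X := Subgroup.zpowers (g * x * g⁻¹) with hX
    set C := Subgroup.centralizer ({z} : Set G) with hCdef
    have hz1 : z ≠ 1 := fun e => hr₀p.ne_one (by rw [← hzo, e, orderOf_one])
    have hXo : Nat.card X = n := by
      rw [hX, Nat.card_zpowers, ← MulAut.conj_apply, MulEquiv.orderOf_eq, hx]
    have hXC : X ≤ C := by
      rw [hX, Subgroup.zpowers_le, hCdef, mem_cent]
      obtain ⟨j, hj⟩ := hg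
      rw [← hj]
      exact (Commute.self_zpow (g * x * g⁻¹) j).eq
    have hCc : Nat.card C ∣ 2 * n := h.cent_n hz1 (hzo ▸ hr₀d.trans han)
    set t' := g * t * g⁻¹ with ht'
    have ht'X : t' ∈ X := by
      obtain ⟨j, hj⟩ := htx
      exact ⟨j, by show (g * x * g⁻¹) ^ j = t'; rw [conj_zpow, ht', ← hj]⟩
    have ht'o : orderOf t' = 2 := (MulEquiv.orderOf_eq (MulAut.conj g) t).trans ht
    have hn0 := h.n_pos
    -- `t'` is central in `C`
    have hXn : (X.subgroupOf C).Normal := by
      have hmul := (X.subgroupOf C).card_mul_index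
      rw [Nat.card_congr (Subgroup.subgroupOfEquivOfLe hXC).toEquiv, hXo] at hmul
      have hle : (X.subgroupOf C).index ∣ 2 :=
        (Nat.mul_dvd_mul_iff_left (by omega : 0 < n)).mp (hmul ▸ (mul_comm 2 n ▸ hCc))
      rcases (Nat.dvd_prime Nat.prime_two).mp hle with e | e
      · rw [Subgroup.index_eq_one] at e; rw [e]; infer_instance
      · exact Subgroup.normal_of_index_eq_two e
    have hcen : ∀ c ∈ C, c * t' = t' * c := by
      intro c hc
      have h1 : c * t' * c⁻¹ ∈ X := hXn.conj_mem ⟨t', hXC ht'X⟩ ht'X ⟨c, hc⟩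
      have h2 : orderOf (c * t' * c⁻¹) = 2 := (MulEquiv.orderOf_eq (MulAut.conj c) t').trans ht'o
      refine mul_inv_eq_iff_eq_mul.mp ?_
      have hcyc : IsCyclic X := inferInstance
      classical
      haveI := Fintype.ofFinite X
      have hle := IsCyclic.card_pow_eq_one_le (α := X) (n := 2) two_pos
      by_contra hne'
      have hsub : ({1, ⟨_, h1⟩, ⟨t', ht'X⟩} : Finset X) ⊆ Finset.univ.filter fun w => w ^ 2 = 1 := by
        intro w hw
        simp only [Finset.mem_insert, Finset.mem_singleton] at hw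
        refine Finset.mem_filter.mpr ⟨Finset.mem_univ _, Subtype.ext ?_⟩
        rcases hw with rfl | rfl | rfl
        · simp
        · exact h2 ▸ pow_orderOf_eq_one _
        · exact ht'o ▸ pow_orderOf_eq_one _
      have h3 := Finset.card_le_card hsub
      rw [Finset.card_insert_of_notMem, Finset.card_insert_of_notMem, Finset.card_singleton] at h3
      · omega
      · simp only [Finset.mem_singleton, Subtype.ext_iff]; exact hne'
      · simp only [Finset.mem_insert, Finset.mem_singleton, Subtype.ext_iff, Subgroup.coe_one]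
        rintro (e | e)
        · rw [← e, orderOf_one] at h2; omega
        · rw [← e, orderOf_one] at ht'o; omega
    have haC : a ∈ C := mem_cent.mpr (Commute.self_pow a _).eq
    have htC : ∀ c ∈ C, t * c * t⁻¹ ∈ C := by
      intro c hc
      have e : t * z * t⁻¹ = z⁻¹ := by rw [hz, ← conj_pow, hinv, inv_pow]
      refine mem_cent.mpr ?_
      have hc' : Commute c z⁻¹ := Commute.inv_right (mem_cent.mp hc)
      have e2 : t * z⁻¹ * t⁻¹ = z := by rw [← conj_inv, e, inv_inv]
      calc t * c * t⁻¹ * z = t * c * t⁻¹ * (t * z⁻¹ * t⁻¹) := by rw [e2]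
        _ = t * (c * z⁻¹) * t⁻¹ := by group
        _ = t * (z⁻¹ * c) * t⁻¹ := by rw [hc'.eq]
        _ = (t * z⁻¹ * t⁻¹) * (t * c * t⁻¹) := by group
        _ = z * (t * c * t⁻¹) := by rw [e2]
    set t'' := t * t' * t⁻¹ with ht''
    have ht''o : orderOf t'' = 2 := (MulEquiv.orderOf_eq (MulAut.conj t) t').trans ht'o
    have ht''C : t'' ∈ C := htC _ (hXC ht'X)
    have ht'H : t' ∈ H := (inferInstance : H.Normal).conj_mem t htH g
    have hcen'' : t'' * a = a * t'' := by
      have hc : t * a * t⁻¹ ∈ C := htC a haC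
      have e := congrArg (fun w => t * w * t⁻¹) (hcen _ hc)
      calc t'' * a = (t * t' * t⁻¹) * (t * (t * a * t⁻¹) * t⁻¹) := by
            rw [ht'']; congr 1
            rw [show t * (t * a * t⁻¹) * t⁻¹ = (t * t) * a * (t * t)⁻¹ by group, htt]; group
        _ = t * (t' * (t * a * t⁻¹)) * t⁻¹ := by group
        _ = t * ((t * a * t⁻¹) * t') * t⁻¹ := e.symm
        _ = (t * (t * a * t⁻¹) * t⁻¹) * t'' := by rw [ht'']; group
        _ = a * t'' := by
            rw [show t * (t * a * t⁻¹) * t⁻¹ = (t * t) * a * (t * t)⁻¹ by group, htt]; group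
    have ht''' : t * t'' * t⁻¹ = t' := by
      rw [ht'', show t * (t * t' * t⁻¹) * t⁻¹ = (t * t) * t' * (t * t)⁻¹ by group, htt]; group
    have hct'a : Commute t' a := (hcen a haC).symm
    by_cases hteq : t'' = t'
    · refine ⟨t', ht'H, ht'o, (mul_inv_eq_iff_eq_mul.mp hteq).symm, ?_, hct'a.eq,
        fun h2 => (hne _ hct'a.eq h2).2, fun e => absurd e h2⟩
      exact (hne _ hct'a.eq h2).1
    · have hcomm : t' * t'' = t'' * t' := (hcen t'' ht''C).symm
      have hprod : (t' * t'') * a = a * (t' * t'') := (hct'a.mul_left hcen'').eq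
      refine ⟨t' * t'', H.mul_mem ht'H ((inferInstance : H.Normal).conj_mem t' ht'H t), ?_, ?_,
        (hne _ hprod h2).1, hprod, fun h2 => (hne _ hprod h2).2, fun e => absurd e h2⟩
      · refine orderOf_eq_prime ?_ fun e => hteq ?_
        · rw [(show Commute t' t'' from hcomm).mul_pow,
            show t' ^ 2 = 1 from ht'o ▸ pow_orderOf_eq_one t',
            show t'' ^ 2 = 1 from ht''o ▸ pow_orderOf_eq_one t'', one_mul]
        · rw [eq_comm]
          calc t' = t' * (t'' * t'') := by
                rw [← pow_two, ← ht''o, pow_orderOf_eq_one, mul_one]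
            _ = (t' * t'') * t'' := (mul_assoc _ _ _).symm
            _ = t'' := by rw [e, one_mul]
      · have e : t * (t' * t'') * t⁻¹ = t' * t'' := by
          calc t * (t' * t'') * t⁻¹ = t'' * (t * t'' * t⁻¹) := by rw [ht'']; group
            _ = t' * t'' := by rw [ht''', hcomm]
        exact (mul_inv_eq_iff_eq_mul.mp e).symm

end CfsgLib.SpecPSL2
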