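import Cfsg.Agent.Lib.SpecPSL2.Core
import Cfsg.Agent.Lib.Classical.Card
import Cfsg.Agent.Lib.BrauerTuan.Identify
import Cfsg.Agent.S1230

/-!
# Groups with the order and element orders of `PSL(2, q)`, `q` even
-/

set_option autoImplicit false
set_option linter.style.haveILetI false

namespace CfsgLib.SpecPSL2

variable {G : Type*} [Group G] [Finite G]

theorem iso_even {F : Type*} [Field F] [Fintype F] {f : ℕ} (hq : Fintype.card F = 2 ^ f)
    (hF : 3 < Fintype.card F)
    (hord : ∀ g : G, orderOf g ∣ 2 ∨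
      orderOf g ∣ (Fintype.card F - 1) / Nat.gcd 2 (Fintype.card F - 1) ∨
      orderOf g ∣ (Fintype.card F + 1) / Nat.gcd 2 (Fintype.card F - 1))
    (_hA : ∃ g : G, orderOf g = (Fintype.card F - 1) / Nat.gcd 2 (Fintype.card F - 1))
    (hB : ∃ g : G, orderOf g = (Fintype.card F + 1) / Nat.gcd 2 (Fintype.card F - 1))
    (T : Sylow 2 G) (hT : Nat.card (T : Subgroup G) = Fintype.card F) :
    Nonempty (G ≃* Matrix.ProjectiveSpecialLinearGroup (Fin 2) F) := by
  have hev : 2 ∣ Fintype.card F := by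
    rcases f with _ | f
    · simp only [pow_zero] at hq; omega
    · rw [hq]; exact dvd_pow_self 2 f.succ_ne_zero
  have hgcd : Nat.gcd 2 (Fintype.card F - 1) = 1 :=
    Nat.prime_two.coprime_iff_not_dvd.mpr (by omega)
  rw [hgcd, Nat.div_one, Nat.div_one] at hord
  rw [hgcd, Nat.div_one] at hB
  have htwo : ∀ g : G, 2 ∣ orderOf g → orderOf g = 2 := by
    intro g hg
    rcases hord g with e | e | e
    · exact Nat.dvd_antisymm e hg
    · have := hg.trans e; omega
    · have := hg.trans e; omega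
  have hexp : ∀ c ∈ (T : Subgroup G), c ^ 2 = 1 := by
    intro c hc
    by_cases h2 : 2 ∣ orderOf c
    · rw [← htwo c h2, pow_orderOf_eq_one]
    · obtain ⟨i, hi⟩ := IsPGroup.iff_orderOf.mp T.2 ⟨c, hc⟩
      rw [Subgroup.orderOf_mk] at hi
      rcases i with _ | i
      · rw [pow_zero, orderOf_eq_one_iff] at hi; rw [hi, one_pow]
      · exact absurd (hi ▸ dvd_pow_self 2 i.succ_ne_zero) h2
  have hcent : ∀ t : G, orderOf t = 2 →
      ∀ c ∈ Subgroup.centralizer ({t} : Set G), c ^ 2 = 1 := by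
    intro t ht c hc
    by_cases h2 : 2 ∣ orderOf c
    · rw [← htwo c h2, pow_orderOf_eq_one]
    · have hco : (orderOf c).Coprime 2 :=
        (Nat.prime_two.coprime_iff_not_dvd.mpr h2).symm
      have hmul : orderOf (c * t) = orderOf c * 2 := by
        rw [(show Commute c t from mem_cent.mp hc).orderOf_mul_eq_mul_orderOf_of_coprime (ht ▸ hco),
          ht]
      have e := htwo _ (hmul ▸ dvd_mul_left 2 (orderOf c))
      rw [show c = 1 from orderOf_eq_one_iff.mp (by omega), one_pow]
  have hnc : ¬ IsCyclic (T : Subgroup G) := by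
    intro hc
    obtain ⟨g, hg⟩ := isCyclic_iff_exists_orderOf_eq_natCard.mp hc
    rw [← Subgroup.orderOf_coe, hT] at hg
    have := Nat.le_of_dvd two_pos (orderOf_dvd_of_pow_eq_one (hexp (g : G) g.2))
    omega
  have hnn : ¬ (T : Subgroup G).Normal := by
    intro hn
    haveI := hn
    obtain ⟨y, hy⟩ := hB
    have hdiv : Nat.card (Subgroup.zpowers y) ∣ Nat.card (T : Subgroup G) - 1 := by
      refine card_dvd_sub_one
        (fun a _ => Subgroup.normalizer_eq_top_iff.mpr hn ▸ Subgroup.mem_top a) fun a ha v hv hv1 e => ?_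
      have hvo : orderOf v = 2 := orderOf_eq_prime (hexp v hv) hv1
      have h1 : orderOf a ∣ 2 := orderOf_dvd_of_pow_eq_one
        (hcent v hvo a (mem_cent.mpr e))
      have h2 : orderOf a ∣ Fintype.card F + 1 := hy ▸
        ((Subgroup.orderOf_dvd_natCard _ ha).trans (dvd_of_eq (Nat.card_zpowers y)))
      refine orderOf_eq_one_iff.mp (Nat.eq_one_of_dvd_coprimes ?_ h1 h2)
      exact Nat.prime_two.coprime_iff_not_dvd.mpr (by omega)
    rw [Nat.card_zpowers, hy, hT] at hdiv
    have := Nat.le_of_dvd (by omega) hdiv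
    omega
  obtain ⟨F', _, _, hc, ⟨e⟩⟩ := Cfsg.Agent.S1230.result T hnc hnn fun t ht =>
    ⟨⟨⟨fun a b => Subtype.ext (by
      have ha := hcent t ht a a.2
      have hb := hcent t ht b b.2
      have hab := hcent t ht _ (Subgroup.mul_mem _ a.2 b.2)
      rw [pow_two] at ha hb hab
      calc (a : G) * b = ((b : G) * b) * ((a : G) * b) := by rw [hb, one_mul]
        _ = (b : G) * (a : G)⁻¹ * (((a : G) * b) * ((a : G) * b)) := by group
        _ = (b : G) * a := by rw [hab, mul_one, inv_eq_of_mul_eq_one_right ha])⟩⟩, hcent t ht⟩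
  obtain ⟨e'⟩ := CfsgLib.BrauerTuan.psl_congr (F := F') (K := F) (hc.trans hT)
  exact ⟨e.trans e'⟩

end CfsgLib.SpecPSL2
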