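import Cfsg.Agent.Lib.SpecPSL2.OddCore
import Cfsg.Agent.Lib.ZStar.Recognize
import Cfsg.Agent.S0201

/-!
# A second involution, and the `p`-elements inverted by involutions
-/

set_option autoImplicit false
set_option linter.style.haveILetI false
set_option linter.unusedSectionVars false

namespace CfsgLib.SpecPSL2

open MulAction

variable {G : Type*} [Group G] [Finite G] {p q n m : ℕ} (h : Data G p q n m)

include h

/-- A Sylow 2-subgroup has more than one involution. -/
theorem Data.exists_second {t : G} (T : Sylow 2 G) (_ht : orderOf t = 2) (_htT : t ∈ (T : Subgroup G)) :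
    ∃ s ∈ (T : Subgroup G), orderOf s = 2 ∧ s ≠ t := by
  haveI : Fact (Nat.Prime 2) := ⟨Nat.prime_two⟩
  by_contra hcon
  push Not at hcon
  have hTc : Nat.card (T : Subgroup G) = 2 ^ (n.factorization 2 + 1) := by
    rw [T.card_eq_multiplicity, h.factorization_two]
  have hu : ∀ u v : (T : Subgroup G), orderOf u = 2 → orderOf v = 2 → u = v := fun u v hu hv =>
    Subtype.ext ((hcon u u.2 (by rwa [Subgroup.orderOf_coe])).trans
      (hcon v v.2 (by rwa [Subgroup.orderOf_coe])).symm)
  rcases CfsgLib.ZStar.cyclic_or_quaternion T.2 hu with hc | ⟨k, ⟨e⟩⟩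
  · exact h.not_cyclic hTc hc
  rcases k with _ | k
  · refine h.not_cyclic hTc ?_
    have : IsCyclic (QuaternionGroup (2 ^ 0)) := by
      rw [isCyclic_iff_exists_orderOf_eq_natCard]
      refine ⟨QuaternionGroup.xa 0, ?_⟩
      rw [QuaternionGroup.orderOf_xa, Nat.card_eq_fintype_card, QuaternionGroup.card]
      norm_num
    exact e.isCyclic.mpr this
  have hZ := Cfsg.Agent.S0201.result T k e (fun N hN hodd => by
    haveI := hN
    exact h.odd_normal_eq_bot N hodd)
  obtain ⟨⟨z, hz⟩, hzo⟩ := exists_prime_orderOf_dvd_card' (G := Subgroup.center G) 2 (by rw [hZ])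
  rw [Subgroup.orderOf_mk] at hzo
  obtain ⟨y, hy⟩ := h.exm
  have h1 : m ∣ 2 * n := by
    refine dvd_trans (hy ▸ Subgroup.orderOf_dvd_natCard _ (mem_cent.mpr ?_)) (h.cent_invol hzo)
    exact Subgroup.mem_center_iff.mp hz y
  have h2 : m ∣ 2 := h.coprime_nm.symm.dvd_of_dvd_mul_right h1
  have := Nat.le_of_dvd two_pos h2
  have := h.m_ge
  omega

/-- The centraliser of a real element of order `p`. -/
theorem Data.real_p {a v : G} (ha : orderOf a = p) (hv : orderOf v = 2)
    (hva : v * a * v⁻¹ = a⁻¹) :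
    (∀ b ∈ Subgroup.centralizer ({a} : Set G), b ≠ 1 →
      Subgroup.centralizer ({b} : Set G) = Subgroup.centralizer ({a} : Set G)) ∧
    Nat.card (Subgroup.centralizer ({a} : Set G)) = q ∧
    2 * Nat.card (Subgroup.normalizer ((Subgroup.centralizer ({a} : Set G)) : Set G)) =
      q * (q - 1) := by
  haveI : Fact p.Prime := ⟨h.hp⟩
  have hq2 : q.Coprime (2 * n) :=
    Nat.Coprime.mul_right (Nat.coprime_two_right.mpr h.q_odd) h.coprime_q.1
  -- the centraliser of an inverted element of order `p` is inverted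
  have key : ∀ b : G, orderOf b = p → v * b * v⁻¹ = b⁻¹ →
      ∀ c ∈ Subgroup.centralizer ({b} : Set G), v * c * v⁻¹ = c⁻¹ := by
    intro b hb hvb
    refine h.inverts hv (fun c hc => mem_cent.mpr ?_) (Nat.Coprime.coprime_dvd_left (h.cent_p hb) hq2)
    have e : c * b⁻¹ = b⁻¹ * c := (show Commute c b from mem_cent.mp hc).inv_right.eq
    have e' := congrArg (fun w => v * w * v⁻¹) e
    have hvb' : v * b⁻¹ * v⁻¹ = b := by rw [← conj_inv, hvb, inv_inv]
    calc v * c * v⁻¹ * b = v * c * v⁻¹ * (v * b⁻¹ * v⁻¹) := by rw [hvb']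
      _ = v * (c * b⁻¹) * v⁻¹ := by group
      _ = v * (b⁻¹ * c) * v⁻¹ := e'
      _ = (v * b⁻¹ * v⁻¹) * (v * c * v⁻¹) := by group
      _ = b * (v * c * v⁻¹) := by rw [hvb']
  set A := Subgroup.centralizer ({a} : Set G) with hA
  have hinvA := key a ha hva
  have hpA : ∀ b ∈ A, b ≠ 1 → orderOf b = p := by
    intro b hb hb1
    have hdq := (Subgroup.orderOf_dvd_natCard A hb).trans (h.cent_p ha)
    rcases h.order_cases hb1 with e | ⟨e, -⟩ | ⟨e, -⟩
    · exact e
    · exact absurd (orderOf_eq_one_iff.mp (Nat.eq_one_of_dvd_coprimes h.coprime_q.1 hdq e)) hb1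
    · exact absurd (orderOf_eq_one_iff.mp (Nat.eq_one_of_dvd_coprimes h.coprime_q.2 hdq e)) hb1
  have hcomm : ∀ b ∈ A, ∀ c ∈ A, b * c = c * b := by
    intro b hb c hc
    have e := hinvA (b * c) (A.mul_mem hb hc)
    rw [show v * (b * c) * v⁻¹ = (v * b * v⁻¹) * (v * c * v⁻¹) by group, hinvA b hb, hinvA c hc,
      mul_inv_rev] at e
    have e' := congrArg (fun w => w⁻¹) e
    simp only [mul_inv_rev, inv_inv] at e'
    exact e'.symm
  have hTI : ∀ b ∈ A, b ≠ 1 → Subgroup.centralizer ({b} : Set G) = A := by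
    intro b hb hb1
    have hbA : A ≤ Subgroup.centralizer ({b} : Set G) := fun c hc => mem_cent.mpr (hcomm c hc b hb)
    refine le_antisymm (fun c hc => mem_cent.mpr ?_) hbA
    have hab : a ∈ Subgroup.centralizer ({b} : Set G) := mem_cent.mpr (mem_cent.mp hb).symm
    have hinvB := key b (hpA b hb hb1) (hinvA b hb)
    have e := hinvB (c * a) (Subgroup.mul_mem _ hc hab)
    rw [show v * (c * a) * v⁻¹ = (v * c * v⁻¹) * (v * a * v⁻¹) by group, hinvB c hc, hinvB a hab,
      mul_inv_rev] at e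
    have e' := congrArg (fun w => w⁻¹) e
    simp only [mul_inv_rev, inv_inv] at e'
    exact e'.symm
  have hApg : IsPGroup p A := by
    obtain ⟨f, hf⟩ := h.hpow
    obtain ⟨i, -, hi⟩ := (Nat.dvd_prime_pow h.hp).mp (hf ▸ h.cent_p ha)
    exact IsPGroup.of_card hi
  obtain ⟨P, hP⟩ := hApg.exists_le_sylow
  have haA : a ∈ A := mem_cent.mpr rfl
  have ha1 : a ≠ 1 := fun e => h.hp.ne_one (by rw [← ha, e, orderOf_one])
  have hPA : (P : Subgroup G) ≤ A := by
    haveI : Group.IsNilpotent (P : Subgroup G) := P.2.isNilpotent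
    have hnc := Group.normalizerCondition_of_isNilpotent (G := (P : Subgroup G))
    by_contra hne
    have hlt : A.subgroupOf (P : Subgroup G) < ⊤ := lt_top_iff_ne_top.mpr fun e =>
      hne (Subgroup.subgroupOf_eq_top.mp e)
    have hgt := hnc _ hlt
    obtain ⟨⟨w, hwP⟩, hwN, hwA⟩ := SetLike.exists_of_lt hgt
    have hwA' : w ∉ A := hwA
    have hwN' : ∀ c ∈ A, w * c * w⁻¹ ∈ A := fun c hc =>
      (Subgroup.mem_normalizer_iff.mp hwN ⟨c, hP hc⟩).mp hc
    letI : MulAction (Subgroup.zpowers w) A :=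
      { smul := fun g c => ⟨(g : G) * c * (g : G)⁻¹, by
          obtain ⟨k, hk⟩ := Subgroup.mem_zpowers_iff.mp g.2
          have hwmem : w ∈ Subgroup.normalizer (A : Set G) := by
            refine Subgroup.mem_normalizer_fintype (fun c hc => hwN' c hc)
          rw [← hk]
          exact (Subgroup.mem_normalizer_iff.mp (zpow_mem hwmem k) c).mp c.2⟩
        one_smul := fun c => Subtype.ext (by show (1 : G) * c * (1 : G)⁻¹ = c; simp)
        mul_smul := fun g g' c => Subtype.ext (by
          show ((g : G) * g') * c * ((g : G) * g')⁻¹ = (g : G) * ((g' : G) * c * (g' : G)⁻¹) * (g : G)⁻¹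
          group) }
    have hwp : IsPGroup p (Subgroup.zpowers w) := P.2.to_le (Subgroup.zpowers_le.mpr hwP)
    have hdvd : p ∣ Nat.card A := ha ▸ Subgroup.orderOf_dvd_natCard A haA
    have h1 : (1 : A) ∈ fixedPoints (Subgroup.zpowers w) A := fun g => Subtype.ext (by
      show (g : G) * 1 * (g : G)⁻¹ = 1; simp)
    obtain ⟨⟨b, hb⟩, hbfix, hb1⟩ :=
      hwp.exists_fixed_point_of_prime_dvd_card_of_fixed_point A hdvd h1
    have e : w * b * w⁻¹ = b := congrArg Subtype.val (hbfix ⟨w, Subgroup.mem_zpowers w⟩)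
    have hb1' : b ≠ 1 := fun e => hb1 (Subtype.ext e.symm)
    exact hwA' (hTI b hb hb1' ▸ mem_cent.mpr (mul_inv_eq_iff_eq_mul.mp e))
  have hPA' : (P : Subgroup G) = A := le_antisymm hPA hP
  have hAq : Nat.card A = q := hPA' ▸ h.sylow_p_card P
  refine ⟨hTI, hAq, ?_⟩
  -- distinct Sylow subgroups meet trivially
  have hfix : ∀ Q : Sylow p G, Q ≠ P → ∀ w ∈ A, w • Q = Q → w = 1 := by
    intro Q hQ w hw e
    by_contra hw1
    have hwQ : w ∈ (Q : Subgroup G) := by
      have hwN : w ∈ Subgroup.normalizer ((Q : Subgroup G) : Set G) := by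
        rwa [Sylow.smul_eq_iff_mem_normalizer] at e
      have hwp : IsPGroup p (Subgroup.zpowers w) := hApg.to_le (Subgroup.zpowers_le.mpr hw)
      have hj : IsPGroup p ((Subgroup.zpowers w) ⊔ (Q : Subgroup G) : Subgroup G) :=
        hwp.to_sup_of_normal_right' Q.2 (Subgroup.zpowers_le.mpr hwN)
      exact (Q.3 hj le_sup_right).le (Subgroup.mem_sup_left (Subgroup.mem_zpowers w))
    -- the centre of `Q` centralises `w`
    haveI : Nontrivial (Q : Subgroup G) :=
      ⟨⟨⟨w, hwQ⟩, 1, fun e => hw1 (congrArg Subtype.val e)⟩⟩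
    obtain ⟨⟨c, hc⟩, hc1⟩ := (Subgroup.center (Q : Subgroup G)).bot_or_exists_ne_one.resolve_left
      (Q.2.bot_lt_center.ne')
    have hc1' : (c : G) ≠ 1 := fun e => hc1.2 (Subtype.ext e)
    have hcA : (c : G) ∈ A := hTI w hw hw1 ▸ mem_cent.mpr
      (congrArg Subtype.val (Subgroup.mem_center_iff.mp hc1.1 ⟨w, hwQ⟩)).symm
    refine hQ (Sylow.ext (Q.3 P.2 ?_).symm)
    intro d hd
    rw [hPA', ← hTI c hcA hc1']
    exact mem_cent.mpr (congrArg Subtype.val (Subgroup.mem_center_iff.mp hc1.1 ⟨d, hd⟩))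
  -- the Sylow number
  classical
  haveI := Fintype.ofFinite (Sylow p G)
  set O := {Q : Sylow p G // Q ≠ P}
  letI : MulAction A O :=
    { smul := fun w Q => ⟨(w : G) • Q.1, fun e => Q.2 (by
        have : ((w : G))⁻¹ • P = P := by
          rw [Sylow.smul_eq_iff_mem_normalizer]
          exact Subgroup.le_normalizer (hPA'.symm ▸ A.inv_mem w.2)
        calc Q.1 = (w : G)⁻¹ • ((w : G) • Q.1) := (inv_smul_smul _ _).symm
          _ = P := by rw [e]; exact this)⟩
      one_smul := fun Q => Subtype.ext (one_smul G Q.1)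
      mul_smul := fun w w' Q => Subtype.ext (mul_smul (w : G) (w' : G) Q.1) }
  haveI := Fintype.ofFinite A
  haveI : Fintype (Quotient (orbitRel A O)) := Fintype.ofFinite _
  have hO : q ∣ Nat.card O := by
    rw [Nat.card_congr (MulAction.selfEquivSigmaOrbits A O), Nat.card_sigma]
    refine Finset.dvd_sum fun ω _ => ?_
    have hstab : stabilizer A ω.out = ⊥ := (Subgroup.eq_bot_iff_forall _).mpr fun w hw =>
      Subtype.ext (hfix ω.out.1 ω.out.2 w w.2 (congrArg Subtype.val (mem_stabilizer_iff.mp hw)))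
    have := Nat.card_congr (MulAction.orbitEquivQuotientStabilizer A ω.out)
    rw [hstab] at this
    rw [this, ← Subgroup.index_eq_card, Subgroup.index_bot, hAq]
  have hOc : Nat.card O = Nat.card (Sylow p G) - 1 := by
    rw [Nat.card_eq_fintype_card, Fintype.card_subtype_compl, Fintype.card_subtype_eq,
      Nat.card_eq_fintype_card]
  set N := Subgroup.normalizer (A : Set G) with hN
  have hNidx : Nat.card (Sylow p G) * Nat.card N = 2 * q * n * m := by
    rw [P.card_eq_index_normalizer, ← P.coe_coe, hPA', ← h.card, mul_comm]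
    exact N.card_mul_index
  obtain ⟨e, he⟩ : q ∣ Nat.card N := hAq ▸ Subgroup.card_dvd_of_le Subgroup.le_normalizer
  -- `N / A` acts semiregularly on `A \ 1`
  have hediv : e ∣ q - 1 := by
    let A1 := {b : A // b ≠ 1}
    letI : MulAction N A1 :=
      { smul := fun g b => ⟨⟨(g : G) * b.1 * (g : G)⁻¹,
            (Subgroup.mem_normalizer_iff.mp g.2 _).mp b.1.2⟩, fun e => b.2 (Subtype.ext (by
          have e' : (g : G) * b.1 * (g : G)⁻¹ = 1 := congrArg Subtype.val e
          exact conj_eq_one_iff.mp e'))⟩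
        one_smul := fun b => Subtype.ext (Subtype.ext (by
          show (1 : G) * b.1 * (1 : G)⁻¹ = b.1; simp))
        mul_smul := fun g g' b => Subtype.ext (Subtype.ext (by
          show ((g : G) * g') * b.1 * ((g : G) * g')⁻¹ =
            (g : G) * ((g' : G) * b.1 * (g' : G)⁻¹) * (g : G)⁻¹
          group)) }
    haveI := Fintype.ofFinite A1
    haveI : Fintype (Quotient (orbitRel N A1)) := Fintype.ofFinite _
    have hA1 : Nat.card A1 = q - 1 := by
      haveI := Fintype.ofFinite A
      rw [← hAq, Nat.card_eq_fintype_card, Fintype.card_subtype_compl, Fintype.card_subtype_eq,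
        Nat.card_eq_fintype_card]
    rw [← hA1, Nat.card_congr (MulAction.selfEquivSigmaOrbits N A1), Nat.card_sigma]
    refine Finset.dvd_sum fun ω _ => ?_
    have hb1 : ((ω.out.1 : A) : G) ≠ 1 := fun e => ω.out.2 (Subtype.ext e)
    have hs : stabilizer N ω.out = A.subgroupOf N := by
      ext g
      constructor
      · intro hg
        have e : (g : G) * (ω.out.1 : G) * (g : G)⁻¹ = ω.out.1 :=
          congrArg (fun b : A1 => (b.1 : G)) (mem_stabilizer_iff.mp hg)
        show (g : G) ∈ A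
        rw [← hTI _ ω.out.1.2 hb1]
        exact mem_cent.mpr (mul_inv_eq_iff_eq_mul.mp e)
      · intro hg
        refine mem_stabilizer_iff.mpr (Subtype.ext (Subtype.ext ?_))
        show (g : G) * (ω.out.1 : G) * (g : G)⁻¹ = ω.out.1
        rw [hcomm g hg _ ω.out.1.2, mul_inv_cancel_right]
    have := Nat.card_congr (MulAction.orbitEquivQuotientStabilizer N ω.out)
    rw [hs, ← Subgroup.index_eq_card] at this
    have hmul := (A.subgroupOf N).card_mul_index
    rw [Nat.card_congr (Subgroup.subgroupOfEquivOfLe Subgroup.le_normalizer).toEquiv, hAq, he]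
      at hmul
    rw [this, Nat.eq_of_mul_eq_mul_left (by have := h.q5; omega) hmul]
  have hq5 := h.q5
  have hsq : 4 * (n * m) + 1 = q * q := by
    rcases h.rel with ⟨e1, e2⟩ | ⟨e1, e2⟩
    · subst e1 e2; ring
    · zify
      rw [show (q : ℤ) = 2 * n - 1 by omega, show (m : ℤ) = n - 1 by omega]
      ring
  have hse : Nat.card (Sylow p G) * e = 2 * (n * m) := by
    have e1 : q * (Nat.card (Sylow p G) * e) = q * (2 * (n * m)) := by
      rw [he] at hNidx
      linarith [hNidx]
    exact Nat.eq_of_mul_eq_mul_left (by omega) e1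
  have hspos : 0 < Nat.card (Sylow p G) := Nat.card_pos
  obtain ⟨j, hj⟩ := hO
  rw [hOc] at hj
  have hepos : 0 < e := by
    rcases Nat.eq_zero_or_pos e with rfl | he'
    · have := Nat.card_pos (α := N); simp [he] at this
    · exact he'
  have hele := Nat.le_of_dvd (by omega) hediv
  -- `2 e + 1` is a multiple of `q` below `2 q`
  have hs : Nat.card (Sylow p G) = q * j + 1 := by omega
  have h2e : q ∣ 2 * e + 1 := by
    have e1 : (2 * e + 1) + q * (2 * j * e) = q * q := by
      rw [← hsq, ← mul_assoc 4, show 4 * n * m = 2 * (2 * (n * m)) by ring, ← hse, hs]; ring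
    exact (Nat.dvd_add_left (dvd_mul_right q _)).mp (e1 ▸ dvd_mul_right q q)
  obtain ⟨c, hc⟩ := h2e
  have hc1 : c = 1 := by
    rcases c with _ | _ | c
    · omega
    · rfl
    · exfalso
      have : q * 2 ≤ q * (c + 1 + 1) := Nat.mul_le_mul_left q (by omega)
      omega
  subst hc1
  rw [he, mul_left_comm]
  congr 1
  omega

end CfsgLib.SpecPSL2
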