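import Cfsg.Agent.Lib.SpecPSL2.Bound
import Cfsg.Agent.Lib.Transfer.Thompson
import Cfsg.Agent.Lib.BSW.Recognition
import Cfsg.Agent.Lib.Classical.Card
import Cfsg.Agent.Lib.BrauerTuan.Identify

/-!
# A group with the order and element orders of `PSL(2, q)`, `q` odd, is `PSL(2, q)`
-/

set_option autoImplicit false
set_option linter.style.haveILetI false
set_option linter.unusedSectionVars false

namespace CfsgLib.SpecPSL2

variable {G : Type*} [Group G] [Finite G] {p q n m : ℕ}

theorem invol_unique_zpowers {x u v : G} (hu : u ∈ Subgroup.zpowers x) (hv : v ∈ Subgroup.zpowers x)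
    (hu2 : orderOf u = 2) (hv2 : orderOf v = 2) : u = v :=
  congrArg Subtype.val (CfsgLib.Transfer.eq_of_sq_eq_one_of_isCyclic
    (⟨u, hu⟩ : Subgroup.zpowers x) ⟨v, hv⟩
    (Subtype.ext (by show u * u = 1; rw [← pow_two, ← hu2, pow_orderOf_eq_one]))
    (Subtype.ext (by show v * v = 1; rw [← pow_two, ← hv2, pow_orderOf_eq_one]))
    (fun e => by
      have : u = 1 := congrArg Subtype.val e
      rw [this, orderOf_one] at hu2; omega)
    (fun e => by
      have : v = 1 := congrArg Subtype.val e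
      rw [this, orderOf_one] at hv2; omega))

/-- The odd-order part of a group with a cyclic Sylow 2-subgroup. -/
theorem exists_odd_complement {H : Subgroup G} [H.Normal] (P : Sylow 2 H)
    (hc : IsCyclic (P : Subgroup H)) :
    ∃ L : Subgroup G, L.Normal ∧ Odd (Nat.card L) ∧ ∀ g ∈ H, Odd (orderOf g) → g ∈ L := by
  by_cases h2 : 2 ∣ Nat.card H
  swap
  · exact ⟨H, inferInstance, Nat.odd_iff.mpr (by omega), fun g hg _ => hg⟩
  haveI : Fact (Nat.Prime 2) := ⟨Nat.prime_two⟩
  have hmin : (Nat.card H).minFac = 2 := (Nat.minFac_eq_two_iff _).mpr h2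
  have hK := hc.normalizer_le_centralizer hmin
  set φ := MonoidHom.transferSylow P hK with hφ
  have hkodd : Odd (Nat.card φ.ker) := Nat.not_even_iff_odd.mp fun e =>
    MonoidHom.not_dvd_card_ker_transferSylow P hK (even_iff_two_dvd.mp e)
  have hchar : ∀ g : H, g ∈ φ.ker ↔ Odd (orderOf g) := by
    intro g
    constructor
    · exact fun hg => hkodd.of_dvd_nat (Subgroup.orderOf_dvd_natCard _ hg)
    · intro hg
      rw [MonoidHom.mem_ker, ← orderOf_eq_one_iff]
      obtain ⟨k, hk⟩ := IsPGroup.iff_orderOf.mp P.2 (φ g)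
      exact Nat.eq_one_of_dvd_coprimes ((Nat.coprime_two_right.mpr hg).pow_right k)
        (orderOf_map_dvd φ g) (dvd_of_eq hk)
  refine ⟨φ.ker.map H.subtype, ⟨?_⟩, by rwa [Subgroup.card_map_of_injective H.subtype_injective],
    fun g hg ho => ⟨⟨g, hg⟩, (hchar _).mpr (by rwa [Subgroup.orderOf_mk]), rfl⟩⟩
  rintro _ ⟨a, ha, rfl⟩ g
  refine ⟨⟨g * a * g⁻¹, (inferInstance : H.Normal).conj_mem a a.2 g⟩, (hchar _).mpr ?_, rfl⟩
  rw [Subgroup.orderOf_mk, ← MulAut.conj_apply, MulEquiv.orderOf_eq, Subgroup.orderOf_coe]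
  exact (hchar a).mp ha

variable (h : Data G p q n m)

include h

theorem Data.odd_mem {H : Subgroup G} [H.Normal] (hH : H.index = 2) {g : G} (hg : Odd (orderOf g)) :
    g ∈ H := by
  rw [← QuotientGroup.eq_one_iff, ← orderOf_eq_one_iff]
  refine Nat.eq_one_of_dvd_coprimes (Nat.coprime_two_right.mpr hg)
    (orderOf_map_dvd (QuotientGroup.mk' H) g) ?_
  have := orderOf_dvd_natCard (g : G ⧸ H)
  rwa [← Subgroup.index_eq_card, hH] at this

/-- There is no subgroup of index two. -/
theorem Data.no_index_two (H : Subgroup G) (hH : H.index = 2) : False := by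
  classical
  haveI : Fact (Nat.Prime 2) := ⟨Nat.prime_two⟩
  haveI : H.Normal := Subgroup.normal_of_index_eq_two hH
  obtain ⟨x, t, T, hx, ht, htx, hX2, hrel, htX2, -, hC⟩ := h.exists_central
  obtain ⟨y, hy⟩ := h.exm
  have hn0 := h.n_pos
  have hm0 := h.m_ge
  have hyH : y ∈ H := h.odd_mem hH (hy ▸ h.m_odd)
  set x2 := x ^ (ordCompl[2] n) with hx2
  -- a Sylow 2-subgroup of `H`
  set TH := (T : Subgroup G) ⊓ H with hTH
  have hTHsyl : Nat.card (TH.subgroupOf H) = 2 ^ (Nat.card H).factorization 2 := by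
    rw [Nat.card_congr (Subgroup.subgroupOfEquivOfLe inf_le_right).toEquiv]
    have hTc : Nat.card (T : Subgroup G) = 2 ^ (Nat.card G).factorization 2 := T.card_eq_multiplicity
    have hG : Nat.card G = 2 * Nat.card H := by rw [← H.index_mul_card, hH]
    have hnle : ¬ (T : Subgroup G) ≤ H := fun e => by
      have h1 := Subgroup.card_dvd_of_le e
      rw [hTc, hG, Nat.factorization_mul two_ne_zero Nat.card_pos.ne', Finsupp.coe_add, Pi.add_apply,
        Nat.prime_two.factorization_self, add_comm] at h1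
      exact Nat.pow_succ_factorization_not_dvd Nat.card_pos.ne' Nat.prime_two h1
    have hidx : (H.subgroupOf (T : Subgroup G)).index = 2 := by
      have h1 : H.relIndex (T : Subgroup G) ∣ 2 := (Subgroup.relIndex_dvd_index_of_normal H _).trans (dvd_of_eq hH)
      rcases (Nat.dvd_prime Nat.prime_two).mp h1 with e | e
      · exact absurd (Subgroup.relIndex_eq_one.mp e) hnle
      · exact e
    have hmul := (H.subgroupOf (T : Subgroup G)).card_mul_index
    rw [hidx, hTc, hG, Nat.factorization_mul two_ne_zero Nat.card_pos.ne', Finsupp.coe_add,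
      Pi.add_apply, Nat.prime_two.factorization_self, add_comm, pow_succ] at hmul
    have e2 : Nat.card TH = Nat.card (H.subgroupOf (T : Subgroup G)) := by
      rw [hTH, ← Subgroup.inf_subgroupOf_left H (T : Subgroup G)]
      exact (Nat.card_congr (Subgroup.subgroupOfEquivOfLe inf_le_left).toEquiv).symm
    rw [e2]; omega
  let P : Sylow 2 H := Sylow.ofCard _ hTHsyl
  have hnc : ¬ IsCyclic TH := by
    intro hc
    have hPc : IsCyclic (P : Subgroup H) :=
      ((Subgroup.subgroupOfEquivOfLe (inf_le_right : TH ≤ H)).isCyclic).mpr hc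
    obtain ⟨L, hLn, hLodd, hL⟩ := exists_odd_complement P hPc
    haveI := hLn
    have := hL y hyH (hy ▸ h.m_odd)
    rw [h.odd_normal_eq_bot L hLodd, Subgroup.mem_bot] at this
    rw [this, orderOf_one] at hy
    omega
  have hx2H : x2 ∉ H := by
    intro hmem
    refine hnc ?_
    have hle : Subgroup.zpowers x2 ≤ TH := le_inf hX2 (Subgroup.zpowers_le.mpr hmem)
    have : TH = Subgroup.zpowers x2 := by
      refine (Subgroup.eq_of_le_of_card_ge hle ?_).symm
      have h1 := ((Subgroup.zpowers x2).subgroupOf (T : Subgroup G)).card_mul_index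
      rw [show ((Subgroup.zpowers x2).subgroupOf (T : Subgroup G)).index = 2 from hrel,
        Nat.card_congr (Subgroup.subgroupOfEquivOfLe hX2).toEquiv] at h1
      have h3 : TH < (T : Subgroup G) := lt_of_le_of_ne inf_le_left fun e => by
        have h4 : (T : Subgroup G) ≤ H := e ▸ inf_le_right
        have h5 := Subgroup.card_dvd_of_le h4
        rw [T.card_eq_multiplicity, show Nat.card G = 2 * Nat.card H by rw [← H.index_mul_card, hH],
          Nat.factorization_mul two_ne_zero Nat.card_pos.ne', Finsupp.coe_add, Pi.add_apply,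
          Nat.prime_two.factorization_self, add_comm] at h5
        exact Nat.pow_succ_factorization_not_dvd Nat.card_pos.ne' Nat.prime_two h5
      obtain ⟨c, hc⟩ := Subgroup.card_dvd_of_le h3.le
      have hlt : Nat.card TH < Nat.card (T : Subgroup G) := by
        refine lt_of_le_of_ne (Nat.le_of_dvd Nat.card_pos (Subgroup.card_dvd_of_le h3.le)) fun e =>
          h3.ne (Subgroup.eq_of_le_of_card_ge h3.le e.ge)
      have hc2 : 2 ≤ c := by
        rcases c with _ | _ | c
        · have := Nat.card_pos (α := (T : Subgroup G)); omega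
        · simp only [zero_add, mul_one] at hc; omega
        · omega
      have := Nat.mul_le_mul_left (Nat.card TH) hc2
      omega
    rw [this]; infer_instance
  have hxH : x ∉ H := fun e => hx2H (H.pow_mem e _)
  have h4 : 4 ∣ n := by
    by_contra h4
    refine hnc ?_
    have ha : n.factorization 2 = 1 := by
      have h1 := h.two_factor_pos
      by_contra hne
      exact h4 ((pow_dvd_pow 2 (show 2 ≤ n.factorization 2 by omega)).trans (Nat.ordProj_dvd n 2))
    have e : Nat.card TH = 2 := by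
      rw [← Nat.card_congr (Subgroup.subgroupOfEquivOfLe (inf_le_right : TH ≤ H)).toEquiv, hTHsyl]
      have hG : Nat.card G = 2 * Nat.card H := by rw [← H.index_mul_card, hH]
      have h1 := h.factorization_two
      rw [hG, Nat.factorization_mul two_ne_zero Nat.card_pos.ne', Finsupp.coe_add, Pi.add_apply,
        Nat.prime_two.factorization_self, ha] at h1
      rw [show (Nat.card H).factorization 2 = 1 by omega, pow_one]
    exact isCyclic_of_prime_card e
  have hxsq : x ^ 2 ∈ H := Subgroup.sq_mem_of_index_two hH x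
  obtain ⟨j, hj⟩ := h4
  have htval : t = x ^ (2 * j) := by
    refine invol_unique_zpowers htx (Subgroup.npow_mem_zpowers _ _) ht ?_
    rw [orderOf_pow_of_dvd (by omega) (hx ▸ ⟨2, by omega⟩), hx, hj,
      show 4 * j = 2 * (2 * j) by ring, Nat.mul_div_cancel _ (by omega)]
  have htH : t ∈ H := by rw [htval, pow_mul]; exact H.pow_mem hxsq j
  have htt : t * t = 1 := by rw [← pow_two, ← ht, pow_orderOf_eq_one]
  have hJH : ∀ u : G, IsConj t u → u ∈ H := fun u hu => by
    obtain ⟨g, rfl⟩ := isConj_iff.mp hu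
    exact (inferInstance : H.Normal).conj_mem t htH g
  -- the three bounds
  have hbm := h.bound_m hy ht hC (d := 4) fun v hv hvN => by
    set N := Subgroup.normalizer ((Subgroup.zpowers y : Subgroup G) : Set G) with hN
    have hy1 : y ≠ 1 := fun e => by rw [e, orderOf_one] at hy; omega
    -- the normaliser is not inside `H`
    obtain ⟨r, hr, hrm⟩ := Nat.exists_prime_and_dvd (show m ≠ 1 by omega)
    haveI := Fact.mk hr
    obtain ⟨S, hS⟩ := (IsPGroup.of_card (p := r)
      (G := Subgroup.zpowers (y ^ (ordCompl[r] m))) (n := m.factorization r) (by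
        rw [Nat.card_zpowers, orderOf_pow_of_dvd (Nat.ordCompl_pos r (by omega)).ne'
          (hy ▸ Nat.ordCompl_dvd m r), hy]
        exact Nat.div_div_self (Nat.ordProj_dvd m r) (by omega))).exists_le_sylow
    have hrne : r ≠ 2 := fun e => Nat.not_even_iff_odd.mpr h.m_odd (even_iff_two_dvd.mpr (e ▸ hrm))
    have hSH : (S : Subgroup G) ≤ H := fun z hz => h.odd_mem hH (by
      obtain ⟨k, hk⟩ := IsPGroup.iff_orderOf.mp S.2 ⟨z, hz⟩
      rw [Subgroup.orderOf_mk] at hk
      rw [hk]; exact (hr.odd_of_ne_two hrne).pow)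
    have hfr := Sylow.normalizer_sup_eq_top' S hSH
    have hSY : (S : Subgroup G) ≤ Subgroup.zpowers y := by
      set z := y ^ (ordCompl[r] m)
      have hz1 : z ≠ 1 := fun e => by
        have hd : orderOf y ∣ ordCompl[r] m := orderOf_dvd_of_pow_eq_one e
        exact Nat.not_dvd_ordCompl hr (by omega) (hrm.trans (hy ▸ hd))
      intro w hw
      haveI : Nontrivial (S : Subgroup G) :=
        ⟨⟨⟨z, hS (Subgroup.mem_zpowers z)⟩, 1, fun e => hz1 (congrArg Subtype.val e)⟩⟩
      obtain ⟨⟨c, hc⟩, hc1⟩ := (Subgroup.center (S : Subgroup G)).bot_or_exists_ne_one.resolve_left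
        (S.2.bot_lt_center.ne')
      have hc1' : (c : G) ≠ 1 := fun e => hc1.2 (Subtype.ext e)
      have hcy : c ∈ Subgroup.zpowers y := by
        rw [← h.cent_m_eq hy (Subgroup.npow_mem_zpowers y _) hz1]
        exact mem_cent.mpr (congrArg Subtype.val
          (Subgroup.mem_center_iff.mp hc1.1 ⟨z, hS (Subgroup.mem_zpowers z)⟩)).symm
      rw [← h.cent_m_eq hy hcy hc1']
      exact mem_cent.mpr (congrArg Subtype.val (Subgroup.mem_center_iff.mp hc1.1 ⟨w, hw⟩))
    have hNS : Subgroup.normalizer ((S : Subgroup G) : Set G) ≤ N := by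
      intro g hg
      obtain ⟨⟨w, hw⟩, hw1⟩ := (S : Subgroup G).ne_bot_iff_exists_ne_one.mp
        (S.ne_bot_of_dvd_card (hrm.trans (h.card ▸ dvd_mul_left m _)))
      have hw1' : w ≠ 1 := fun e => hw1 (Subtype.ext e)
      have hgw : g * w * g⁻¹ ∈ Subgroup.zpowers y := hSY ((Subgroup.mem_normalizer_iff.mp hg w).mp hw)
      refine Subgroup.mem_normalizer_fintype fun c hc => ?_
      rw [SetLike.mem_coe, ← h.cent_m_eq hy hgw (fun e => hw1' (conj_eq_one_iff.mp e)), mem_cent]
      have hc' : c * w = w * c := by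
        rw [SetLike.mem_coe, ← h.cent_m_eq hy (hSY hw) hw1', mem_cent] at hc
        exact hc
      calc g * c * g⁻¹ * (g * w * g⁻¹) = g * (c * w) * g⁻¹ := by group
        _ = g * (w * c) * g⁻¹ := by rw [hc']
        _ = g * w * g⁻¹ * (g * c * g⁻¹) := by group
    have hNH : ¬ N ≤ H := fun e => by
      have : H = ⊤ := top_le_iff.mp (hfr ▸ sup_le (hNS.trans e) le_rfl)
      rw [this, Subgroup.index_top] at hH; omega
    have h1 : H.relIndex N = 2 := by
      rcases (Nat.dvd_prime Nat.prime_two).mp ((Subgroup.relIndex_dvd_index_of_normal H N).trans (dvd_of_eq hH)) with e | e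
      · exact absurd (Subgroup.relIndex_eq_one.mp e) hNH
      · exact e
    have hmul := (H.subgroupOf N).card_mul_index
    rw [show (H.subgroupOf N).index = 2 from h1] at hmul
    have h2m : 2 * m ∣ Nat.card (H.subgroupOf N) := by
      refine (Nat.coprime_two_left.mpr h.m_odd).mul_dvd_of_dvd_of_dvd ?_ ?_
      · rw [← (conj_orderOf hv).trans ht]
        exact (Subgroup.orderOf_mk v hvN) ▸
          Subgroup.orderOf_dvd_natCard (H.subgroupOf N) (x := ⟨v, hvN⟩) (hJH v hv)
      · rw [← hy]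
        have hyN : y ∈ N := Subgroup.le_normalizer (Subgroup.mem_zpowers y)
        exact (Subgroup.orderOf_mk y hyN) ▸
          Subgroup.orderOf_dvd_natCard (H.subgroupOf N) (x := ⟨y, hyN⟩) hyH
    rw [← hmul, show 4 * m = 2 * m * 2 by ring]
    exact Nat.mul_dvd_mul_right h2m 2
  obtain ⟨hbp, hbp'⟩ := h.bound_p ht hC
  have hbn := h.bound_n hx ht htx H htH (k := 2 * n - 3) fun r _ hr2 hrt hrt' => by
    haveI := Fintype.ofFinite G
    set C := Subgroup.centralizer ({r} : Set G) with hCr
    have hsub : {u : G | IsConj t u ∧ u * r = r * u ∧ u ≠ t ∧ u ≠ r} ⊆ (C : Set G) \ {1, t, r} := by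
      rintro u ⟨hu, hur, hut, hur'⟩
      refine ⟨mem_cent.mpr hur, ?_⟩
      simp only [Set.mem_insert_iff, Set.mem_singleton_iff, not_or]
      refine ⟨fun e => ?_, hut, hur'⟩
      have := (conj_orderOf hu).trans ht
      rw [e, orderOf_one] at this; omega
    refine (Set.ncard_le_ncard hsub (Set.toFinite _)).trans ?_
    have hsub3 : ({1, t, r} : Set G) ⊆ C := by
      rintro w (rfl | rfl | rfl)
      · exact C.one_mem
      · exact mem_cent.mpr hrt.symm
      · exact mem_cent.mpr rfl
    have h3 : ({1, t, r} : Set G).ncard = 3 := by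
      refine Set.ncard_eq_three.mpr ⟨1, t, r, ?_, ?_, hrt'.symm, rfl⟩
      · intro e; rw [← e, orderOf_one] at ht; omega
      · intro e; rw [← e, orderOf_one] at hr2; omega
    rw [Set.ncard_sdiff hsub3, h3, ← Nat.card_coe_set_eq]
    have := Nat.le_of_dvd (by omega) (h.cent_invol hr2)
    exact Nat.sub_le_sub_right this 3
  have hR : 2 * {r : G | r ∈ H ∧ orderOf r = 2 ∧ r * t = t * r ∧ r ≠ t}.ncard ≤ n := by
    set C := Subgroup.centralizer ({t} : Set G) with hCdef
    have hK2 : Subgroup.zpowers (x ^ 2) ≤ C ⊓ H := Subgroup.zpowers_le.mpr ⟨mem_cent.mpr (by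
      obtain ⟨k, hk⟩ := htx
      rw [← hk]
      exact ((Commute.self_zpow x k).pow_left 2).eq), hxsq⟩
    have hsub : {r : G | r ∈ H ∧ orderOf r = 2 ∧ r * t = t * r ∧ r ≠ t} ⊆
        ((C ⊓ H : Subgroup G) : Set G) \ (Subgroup.zpowers (x ^ 2) : Set G) := by
      rintro r ⟨hrH, hr2, hrt, hrt'⟩
      refine ⟨⟨mem_cent.mpr hrt, hrH⟩, fun e => hrt' ?_⟩
      exact invol_unique_zpowers (x := x) (Subgroup.zpowers_le.mpr (Subgroup.npow_mem_zpowers x 2) e)
        htx hr2 ht
    have hle := Set.ncard_le_ncard hsub (Set.toFinite _)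
    rw [Set.ncard_sdiff (SetLike.coe_subset_coe.mpr hK2)] at hle
    have hcs : ((C ⊓ H : Subgroup G) : Set G).ncard = Nat.card (C ⊓ H : Subgroup G) :=
      (Nat.card_coe_set_eq _).symm
    have hks : (Subgroup.zpowers (x ^ 2) : Set G).ncard = Nat.card (Subgroup.zpowers (x ^ 2)) :=
      (Nat.card_coe_set_eq _).symm
    have hc1 : Nat.card (Subgroup.zpowers (x ^ 2)) = 2 * j := by
      rw [Nat.card_zpowers, orderOf_pow_of_dvd two_ne_zero (hx ▸ ⟨2 * j, by omega⟩), hx, hj]; omega
    have hc2 : Nat.card (C ⊓ H : Subgroup G) ≤ n := by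
      have hne : ¬ C ≤ H := fun e => hxH (e (mem_cent.mpr (by
        obtain ⟨k, hk⟩ := htx
        rw [← hk]; exact (Commute.self_zpow x k).eq)))
      have h1 : H.relIndex C = 2 := by
        rcases (Nat.dvd_prime Nat.prime_two).mp ((Subgroup.relIndex_dvd_index_of_normal H C).trans (dvd_of_eq hH)) with e | e
        · exact absurd (Subgroup.relIndex_eq_one.mp e) hne
        · exact e
      have hmul := (H.subgroupOf C).card_mul_index
      rw [show (H.subgroupOf C).index = 2 from h1, hC, ← Subgroup.inf_subgroupOf_left H C,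
        Nat.card_congr (Subgroup.subgroupOfEquivOfLe inf_le_left).toEquiv] at hmul
      omega
    omega
  have hsplit := h.class_split ht hC
  set a := {u : G | IsConj t u ∧ u ≠ t ∧ orderOf (t * u) ∣ m}.ncard
  set b := {u : G | IsConj t u ∧ u ≠ t ∧ orderOf (t * u) = p}.ncard
  set c := {u : G | IsConj t u ∧ u ≠ t ∧ orderOf (t * u) ∣ n}.ncard
  set R := {r : G | r ∈ H ∧ orderOf r = 2 ∧ r * t = t * r ∧ r ≠ t}.ncard
  have hc' : 2 * c ≤ n * (2 * n - 3) :=
    (Nat.mul_le_mul_left 2 hbn).trans (by rw [← mul_assoc]; exact Nat.mul_le_mul_right _ hR)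
  rcases h.rel with ⟨e1, e2⟩ | ⟨e1, e2⟩
  · subst e1 e2
    zify [show 1 ≤ n + 1 by omega, show 3 ≤ 2 * n by omega] at hsplit hbm hbp hc'
    nlinarith
  · have hb0 : b = 0 := by
      by_contra hb; have := hbp' hb; omega
    obtain ⟨n', rfl⟩ : ∃ n', n = n' + 2 := ⟨n - 2, by omega⟩
    obtain rfl : m = n' + 1 := by omega
    obtain rfl : q = 2 * n' + 3 := by omega
    zify [show 1 ≤ n' + 1 by omega, show 3 ≤ 2 * (n' + 2) by omega] at hsplit hbm hc' hb0
    nlinarith

/-- All involutions are conjugate. -/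
theorem Data.conj_t {x t : G} {T : Sylow 2 G}
    (_hX2 : Subgroup.zpowers (x ^ (ordCompl[2] n)) ≤ (T : Subgroup G))
    (hrel : (Subgroup.zpowers (x ^ (ordCompl[2] n))).relIndex (T : Subgroup G) = 2)
    (htx : t ∈ Subgroup.zpowers (x ^ (ordCompl[2] n))) (ht : orderOf t = 2)
    {w : G} (hw : orderOf w = 2) : IsConj t w := by
  haveI : Fact (Nat.Prime 2) := ⟨Nat.prime_two⟩
  obtain ⟨S, hS⟩ := (IsPGroup.of_card (p := 2) (G := Subgroup.zpowers w) (n := 1)
    (by rw [Nat.card_zpowers, hw, pow_one])).exists_le_sylow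
  obtain ⟨g, hg⟩ := MulAction.exists_smul_eq G S T
  have hwT : g * w * g⁻¹ ∈ (T : Subgroup G) := by
    rw [← hg, Sylow.coe_subgroup_smul]
    exact ⟨w, hS (Subgroup.mem_zpowers w), rfl⟩
  have hwo : orderOf (g * w * g⁻¹) = 2 := (MulEquiv.orderOf_eq (MulAut.conj g) w).trans hw
  have key : ∀ v : G, orderOf v = 2 → v ∈ Subgroup.zpowers (x ^ (ordCompl[2] n)) → v = t :=
    fun v hv hvx => invol_unique_zpowers hvx htx hv ht
  have hcw : IsConj w (g * w * g⁻¹) := isConj_iff.mpr ⟨g, rfl⟩
  by_cases hmem : g * w * g⁻¹ ∈ Subgroup.zpowers (x ^ (ordCompl[2] n))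
  · exact (key _ hwo hmem) ▸ hcw.symm
  rcases CfsgLib.Transfer.thompson_transfer T hrel
      (CfsgLib.Transfer.sq_eq_one_of_orderOf_eq_two hwo) hwT hmem with ⟨M, -, hM, -⟩ | ⟨a, -, ha⟩
  · exact (h.no_index_two M hM).elim
  · have hao : orderOf (a * (g * w * g⁻¹) * a⁻¹) = 2 :=
      (MulEquiv.orderOf_eq (MulAut.conj a) _).trans hwo
    have h2 : IsConj w (a * (g * w * g⁻¹) * a⁻¹) := hcw.trans (isConj_iff.mpr ⟨a, rfl⟩)
    exact (key _ hao ha) ▸ h2.symm

/-- The Brauer–Suzuki–Wall configuration, and simplicity. -/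
theorem Data.setting : ∃ (t s : G) (K : Subgroup G), CfsgLib.BSW.Setting t K s ∧
    K ⊔ Subgroup.zpowers s = Subgroup.centralizer ({t} : Set G) ∧ IsSimpleGroup G := by
  classical
  haveI := Fintype.ofFinite G
  obtain ⟨x, t, T, hx, ht, htx, hX2, hrel, htX2, hcen, hC⟩ := h.exists_central
  obtain ⟨y, hy⟩ := h.exm
  have hn0 := h.n_pos
  have hm0 := h.m_ge
  have hq0 := h.q5
  have hTC : ∀ g ∈ (T : Subgroup G), g ∈ Subgroup.centralizer ({t} : Set G) := fun g hg =>
    mem_cent.mpr (hcen g hg)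
  obtain ⟨s, hsT, hs, hst⟩ := h.exists_second T ht (hX2 htX2)
  have hcl : ∀ w : G, orderOf w = 2 → IsConj t w := fun w hw => h.conj_t hX2 hrel htX2 ht hw
  have hconj : ∀ u v : G, orderOf u = 2 → orderOf v = 2 → IsConj u v := fun u v hu hv =>
    (hcl u hu).symm.trans (hcl v hv)
  have htt : t * t = 1 := by rw [← pow_two, ← ht, pow_orderOf_eq_one]
  set C := Subgroup.centralizer ({t} : Set G) with hCdef
  set K := Subgroup.zpowers x with hK
  have hxC : x ∈ C := mem_cent.mpr (by
    obtain ⟨k, hk⟩ := htx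
    rw [← hk]; exact (Commute.self_zpow x k).eq)
  have hKC : K ≤ C := Subgroup.zpowers_le.mpr hxC
  have hKc : Nat.card K = n := by rw [hK, Nat.card_zpowers, hx]
  have hKi : (K.subgroupOf C).index = 2 := by
    have hmul := (K.subgroupOf C).card_mul_index
    rw [Nat.card_congr (Subgroup.subgroupOfEquivOfLe hKC).toEquiv, hKc, hC, mul_comm 2 n] at hmul
    exact Nat.eq_of_mul_eq_mul_left (by omega) hmul
  have hsK : s ∉ K := fun e => hst (invol_unique_zpowers e htx hs ht)
  have hsC : s ∈ C := hTC s hsT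
  have hsplitC : ∀ g ∈ C, g ∈ K ∨ g * s ∈ K := by
    intro g hg
    by_cases hgK : g ∈ K
    · exact Or.inl hgK
    · refine Or.inr ?_
      have := (Subgroup.mul_mem_iff_of_index_two hKi (a := ⟨g, hg⟩) (b := ⟨s, hsC⟩)).mpr
        (iff_of_false hgK hsK)
      exact this
  -- involutions of the centraliser
  set I := {r : G | orderOf r = 2 ∧ r * t = t * r} with hI
  have hIsub : I \ {t} ⊆ (C : Set G) \ (K : Set G) := by
    rintro r ⟨⟨hr2, hrt⟩, hrne⟩
    exact ⟨mem_cent.mpr hrt, fun e => hrne (invol_unique_zpowers e htx hr2 ht)⟩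
  have hdiff : ((C : Set G) \ (K : Set G)).ncard = n := by
    rw [Set.ncard_sdiff (SetLike.coe_subset_coe.mpr hKC),
      show (C : Set G).ncard = 2 * n from (Nat.card_coe_set_eq _).symm.trans hC,
      show (K : Set G).ncard = n from (Nat.card_coe_set_eq _).symm.trans hKc]
    omega
  have hIle : (I \ {t}).ncard ≤ n := hdiff ▸ Set.ncard_le_ncard hIsub (Set.toFinite _)
  have hbn := h.bound_n hx ht htx ⊤ (Subgroup.mem_top t) (k := (I \ {t}).ncard - 1)
    fun r _ hr2 hrt hrt' => by
      obtain ⟨g, hg⟩ := isConj_iff.mp (hcl r hr2)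
      let f : G → G := fun u => g * u * g⁻¹
      have hf : Function.Injective f := fun a b e => mul_left_cancel (mul_right_cancel e)
      have hIim : {u : G | orderOf u = 2 ∧ u * r = r * u} ⊆ f '' I := by
        rintro u ⟨hu2, hur⟩
        refine ⟨g⁻¹ * u * g, ⟨?_, ?_⟩, by show g * (g⁻¹ * u * g) * g⁻¹ = u; group⟩
        · have := MulEquiv.orderOf_eq (MulAut.conj g⁻¹) u
          rw [MulAut.conj_apply, inv_inv] at this
          rw [this, hu2]
        · rw [← hg] at hur
          calc g⁻¹ * u * g * t = g⁻¹ * (u * (g * t * g⁻¹)) * g := by group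
            _ = g⁻¹ * ((g * t * g⁻¹) * u) * g := by rw [hur]
            _ = t * (g⁻¹ * u * g) := by group
      have hsub : {u : G | IsConj t u ∧ u * r = r * u ∧ u ≠ t ∧ u ≠ r} ⊆
          {u : G | orderOf u = 2 ∧ u * r = r * u} \ {t, r} := by
        rintro u ⟨hu, hur, hut, hur'⟩
        exact ⟨⟨(conj_orderOf hu).trans ht, hur⟩, by simp [hut, hur']⟩
      have h2 : ({t, r} : Set G) ⊆ {u : G | orderOf u = 2 ∧ u * r = r * u} := by
        rintro u (rfl | rfl)
        · exact ⟨ht, hrt.symm⟩
        · exact ⟨hr2, rfl⟩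
      refine (Set.ncard_le_ncard hsub (Set.toFinite _)).trans ?_
      rw [Set.ncard_sdiff h2, Set.ncard_pair hrt'.symm]
      have h3 := (Set.ncard_le_ncard hIim (Set.toFinite _)).trans
        (Set.ncard_image_le (Set.toFinite _))
      have h4 := Set.ncard_sdiff_singleton_of_mem (show t ∈ I from ⟨ht, rfl⟩)
      omega
  have hR : {r : G | r ∈ (⊤ : Subgroup G) ∧ orderOf r = 2 ∧ r * t = t * r ∧ r ≠ t} = I \ {t} := by
    ext r; simp [hI, and_assoc]
  rw [hR] at hbn
  have hbm := h.bound_m hy ht hC (d := 2) fun v hv hvN =>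
    (Nat.coprime_two_left.mpr h.m_odd).mul_dvd_of_dvd_of_dvd
      ((conj_orderOf hv).trans ht ▸ Subgroup.orderOf_dvd_natCard _ hvN)
      (hy ▸ Subgroup.orderOf_dvd_natCard _ (Subgroup.le_normalizer (Subgroup.mem_zpowers y)))
  obtain ⟨hbp, hbp'⟩ := h.bound_p ht hC
  have hsplit := h.class_split ht hC
  set a := {u : G | IsConj t u ∧ u ≠ t ∧ orderOf (t * u) ∣ m}.ncard with ha
  set b := {u : G | IsConj t u ∧ u ≠ t ∧ orderOf (t * u) = p}.ncard
  set c := {u : G | IsConj t u ∧ u ≠ t ∧ orderOf (t * u) ∣ n}.ncard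
  set i := (I \ {t}).ncard with hi
  have hfin : i = n ∧ 0 < a := by
    have hi1 : 1 ≤ i := by
      rw [hi]
      exact (Set.ncard_pos (Set.toFinite _)).mpr ⟨s, ⟨hs, mem_cent.mp hsC⟩, hst⟩
    obtain ⟨i', hi'⟩ : ∃ i', i = i' + 1 := ⟨i - 1, by omega⟩
    rw [hi'] at hbn hIle ⊢
    simp only [Nat.add_sub_cancel] at hbn
    obtain ⟨n', rfl⟩ : ∃ n', n = n' + 2 := ⟨n - 2, by omega⟩
    rcases h.rel with ⟨e1, e2⟩ | ⟨e1, e2⟩
    · subst e1 e2
      simp only [Nat.add_sub_cancel] at hbm
      refine ⟨?_, by nlinarith⟩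
      by_contra hne
      have h5 : i' ≤ n' := by omega
      have h6 : (i' + 1) * i' ≤ (n' + 1) * n' := Nat.mul_le_mul (by omega) h5
      nlinarith
    · obtain rfl : m = n' + 1 := by omega
      obtain rfl : q = 2 * n' + 3 := by omega
      have hb0 : b = 0 := by
        by_contra hb; have := hbp' hb; omega
      simp only [Nat.add_sub_cancel] at hbm
      have hn4 : 2 ≤ n' := by
        obtain ⟨j, hj⟩ := h.neven
        have := h.q5
        omega
      refine ⟨?_, by nlinarith⟩
      by_contra hne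
      have h5 : i' ≤ n' := by omega
      have h6 : (i' + 1) * i' ≤ (n' + 1) * n' := Nat.mul_le_mul (by omega) h5
      nlinarith
  have hout : ∀ g ∈ C, g ∉ K → orderOf g = 2 := by
    intro g hg hgK
    have heq : I \ {t} = (C : Set G) \ (K : Set G) :=
      Set.eq_of_subset_of_ncard_le hIsub (by rw [hdiff, ← hi, hfin.1]) (Set.toFinite _)
    have : g ∈ I \ {t} := heq ▸ ⟨hg, hgK⟩
    exact this.1.1
  have hss : s * s = 1 := by rw [← pow_two, ← hs, pow_orderOf_eq_one]
  have hinv : ∀ k ∈ K, s * k * s⁻¹ = k⁻¹ := by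
    intro k hk
    have h2 : orderOf (s * k) = 2 := hout _ (C.mul_mem hsC (hKC hk)) fun e =>
      hsK ((Subgroup.mul_mem_cancel_right K hk).mp e)
    have e : (s * k) * (s * k) = 1 := by rw [← pow_two, ← h2, pow_orderOf_eq_one]
    rw [inv_eq_of_mul_eq_one_right hss]
    refine eq_inv_of_mul_eq_one_left ?_
    rw [← e]; group
  have hset : CfsgLib.BSW.Setting t K s :=
    { t2 := ht
      s2 := hs
      comm := fun a ha b hb => by
        obtain ⟨i, rfl⟩ := ha; obtain ⟨j, rfl⟩ := hb
        exact (Commute.zpow_zpow_self x i j).eq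
      tK := htx
      inv := hinv
      uniq := fun k hk hkk => by
        by_cases hk1 : k = 1
        · exact Or.inl hk1
        · exact Or.inr (invol_unique_zpowers hk htx
            (orderOf_eq_prime (by rw [pow_two, hkk]) hk1) ht)
      sK := hsK
      cent := fun g => ⟨fun e => hsplitC g (mem_cent.mpr e), fun e => mem_cent.mp (e.elim
        (fun e => hKC e) (fun e => by
          have := C.mul_mem (hKC e) hsC
          rwa [mul_assoc, hss, mul_one] at this))⟩
      conj := hconj
      ti := fun g k hk hk1 hgk => by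
        -- `g⁻¹ K g` centralises `k`
        have hx' : g⁻¹ * x * g ∈ Subgroup.centralizer ({k} : Set G) := by
          obtain ⟨i, hi⟩ := hgk
          have hi' : x ^ i = g * k * g⁻¹ := hi
          refine mem_cent.mpr ?_
          have : k = g⁻¹ * x ^ i * g := by rw [hi']; group
          rw [this]
          calc g⁻¹ * x * g * (g⁻¹ * x ^ i * g) = g⁻¹ * (x * x ^ i) * g := by group
            _ = g⁻¹ * (x ^ i * x) * g := by rw [(Commute.self_zpow x i).eq]
            _ = g⁻¹ * x ^ i * g * (g⁻¹ * x * g) := by group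
        by_cases hkt : k = t
        · subst hkt
          have := invol_unique_zpowers hgk htx
            ((MulEquiv.orderOf_eq (MulAut.conj g) k).trans ht) ht
          exact mul_inv_eq_iff_eq_mul.mp this
        set Z := Subgroup.centralizer ({k} : Set G) with hZ
        have hKZ : K ≤ Z := by
          rw [hK, Subgroup.zpowers_le, hZ, mem_cent]
          obtain ⟨i, rfl⟩ := hk
          exact (Commute.self_zpow x i).eq
        have hko : orderOf k ∣ n := hKc ▸ Subgroup.orderOf_dvd_natCard K hk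
        have hi2 : (K.subgroupOf Z).index ∣ 2 := by
          have hmul := (K.subgroupOf Z).card_mul_index
          rw [Nat.card_congr (Subgroup.subgroupOfEquivOfLe hKZ).toEquiv, hKc] at hmul
          exact (Nat.mul_dvd_mul_iff_left (by omega : 0 < n)).mp
            (hmul ▸ (mul_comm 2 n ▸ h.cent_n hk1 hko))
        have hKn : (K.subgroupOf Z).Normal := by
          rcases (Nat.dvd_prime Nat.prime_two).mp hi2 with e | e
          · rw [Subgroup.index_eq_one] at e; rw [e]; infer_instance
          · exact Subgroup.normal_of_index_eq_two e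
        have hZC : ∀ z ∈ Z, z ∈ C := fun z hz => by
          have h1 : z * t * z⁻¹ ∈ K := hKn.conj_mem ⟨t, hKZ htx⟩ htx ⟨z, hz⟩
          exact mem_cent.mpr (mul_inv_eq_iff_eq_mul.mp (invol_unique_zpowers h1 htx
            ((MulEquiv.orderOf_eq (MulAut.conj z) t).trans ht) ht))
        have hxK : g⁻¹ * x * g ∈ K := by
          rcases hsplitC _ (hZC _ hx') with e | e
          · exact e
          exfalso
          -- otherwise `s` centralises `k`
          have hsZ : s ∈ Z := by
            have := Z.mul_mem (Z.inv_mem hx') (hKZ e)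
            rwa [inv_mul_cancel_left] at this
          have e' := hinv k hk
          rw [mem_cent.mp hsZ, mul_inv_cancel_right] at e'
          rcases Classical.em (orderOf k = 2) with h2 | h2
          · exact hkt (invol_unique_zpowers hk htx h2 ht)
          · exact h2 (orderOf_eq_prime (by rw [pow_two]; exact mul_eq_one_iff_eq_inv.mpr e') hk1)
        have : g⁻¹ * t * g ∈ K := by
          obtain ⟨i, hi⟩ := htx
          have hi' : x ^ i = t := hi
          have := K.zpow_mem hxK i
          rw [← hi', show g⁻¹ * x ^ i * g = (g⁻¹ * x * g) ^ i by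
            rw [show g⁻¹ * x * g = g⁻¹ * x * g⁻¹⁻¹ by rw [inv_inv], conj_zpow, inv_inv]]
          exact this
        have e : g⁻¹ * t * g = t := invol_unique_zpowers this htx (by
          have := MulEquiv.orderOf_eq (MulAut.conj g⁻¹) t
          rw [MulAut.conj_apply, inv_inv] at this
          rw [this, ht]) ht
        calc g * t = g * (g⁻¹ * t * g) := by rw [e]
          _ = t * g := by group }
  have hHK : K ⊔ Subgroup.zpowers s = C := by
    refine le_antisymm (sup_le hKC (Subgroup.zpowers_le.mpr hsC)) fun g hg => ?_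
    rcases hsplitC g hg with e | e
    · exact Subgroup.mem_sup_left e
    · have := (K ⊔ Subgroup.zpowers s).mul_mem (Subgroup.mem_sup_left e)
        (Subgroup.mem_sup_right (Subgroup.mem_zpowers s))
      rwa [mul_assoc, hss, mul_one] at this
  refine ⟨t, s, K, hset, hHK, ?_⟩
  obtain ⟨Q, D, hG, hQ, -, hd, hinf, hN, -⟩ := hset.main hHK
  have hQq : Nat.card Q = q := by
    have e : 2 * Nat.card G = q * (q + 1) * (q - 1) := by
      rw [h.card]
      rcases h.rel with ⟨e1, e2⟩ | ⟨e1, e2⟩
      · subst e1 e2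
        rw [show 2 * n + 1 - 1 = 2 * n by omega]; ring
      · obtain rfl : n = m + 1 := by omega
        obtain rfl : q = 2 * m + 1 := by omega
        rw [show 2 * m + 1 - 1 = 2 * m by omega]; ring
    rw [e] at hG
    have hmono : ∀ u v : ℕ, 2 ≤ u → u < v → u * (u + 1) * (u - 1) < v * (v + 1) * (v - 1) := by
      intro u v hu huv
      have h1 : u * (u + 1) < v * (v + 1) := Nat.mul_lt_mul_of_lt_of_le huv (by omega) (by omega)
      exact Nat.mul_lt_mul_of_lt_of_le h1 (by omega) (by omega)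
    have hQ2 : 2 ≤ Nat.card Q := by
      have := Nat.card_pos (α := D); omega
    rcases lt_trichotomy (Nat.card Q) q with e | e | e
    · exact absurd hG (hmono _ _ hQ2 e).ne'
    · exact e
    · exact absurd hG (hmono _ _ (by omega) e).ne
  haveI : Nontrivial G := ⟨⟨t, 1, fun e => by rw [e, orderOf_one] at ht; omega⟩⟩
  refine ⟨fun N hNn => ?_⟩
  by_cases hNb : N = ⊥
  · exact Or.inl hNb
  refine Or.inr ?_
  haveI := hNn
  have h2N : 2 ∣ Nat.card N := by
    by_contra h2
    exact hNb (h.odd_normal_eq_bot N (Nat.odd_iff.mpr (by omega)))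
  haveI : Fact (Nat.Prime 2) := ⟨Nat.prime_two⟩
  obtain ⟨⟨w, hw⟩, hwo⟩ := exists_prime_orderOf_dvd_card' (G := N) 2 h2N
  rw [Subgroup.orderOf_mk] at hwo
  have hall : ∀ v : G, orderOf v = 2 → v ∈ N := fun v hv => by
    obtain ⟨g, hg⟩ := isConj_iff.mp (hconj w v hwo hv)
    exact hg ▸ hNn.conj_mem w hw g
  have hCN : C ≤ N := by
    intro g hg
    by_cases hgK : g ∈ K
    · have := hout _ (C.mul_mem hg hsC) fun e => hsK ((Subgroup.mul_mem_cancel_left K hgK).mp e)
      have h3 := N.mul_mem (hall _ this) (hall s hs)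
      rwa [mul_assoc, hss, mul_one] at h3
    · exact hall g (hout g hg hgK)
  -- a conjugate of `y` inverted by `t`
  obtain ⟨u, hu, hut, hum⟩ : {u : G | IsConj t u ∧ u ≠ t ∧ orderOf (t * u) ∣ m}.Nonempty :=
    (Set.ncard_pos (Set.toFinite _)).mp (ha ▸ hfin.2)
  have ha1 : t * u ≠ 1 := fun e => hut (by
    have := congrArg (fun w => t * w) e
    rwa [← mul_assoc, htt, one_mul, mul_one] at this)
  have hr0p : (orderOf (t * u)).minFac.Prime := Nat.minFac_prime (mt orderOf_eq_one_iff.mp ha1)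
  have hr0d := Nat.minFac_dvd (orderOf (t * u))
  have hzo := orderOf_pow_orderOf_div (orderOf_pos (t * u)).ne' hr0d
  obtain ⟨g, hg⟩ := h.conj_into hy (Or.inl rfl) hr0p (fun e => Nat.not_even_iff_odd.mpr h.m_odd
    (even_iff_two_dvd.mpr (e ▸ hr0d.trans hum))) (hr0d.trans hum) hzo
  set y' := g * y * g⁻¹ with hy'def
  have hy' : orderOf y' = m := (MulEquiv.orderOf_eq (MulAut.conj g) y).trans hy
  set z := (t * u) ^ (orderOf (t * u) / (orderOf (t * u)).minFac) with hzdef
  have hz1 : z ≠ 1 := fun e => hr0p.ne_one (by rw [← hzo, e, orderOf_one])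
  have htz : t * z * t⁻¹ = z⁻¹ := by
    have huu : u * u = 1 := by rw [← pow_two, ← ht, ← conj_orderOf hu, pow_orderOf_eq_one]
    rw [hzdef, ← conj_pow, ← inv_pow]
    congr 1
    rw [mul_inv_rev, inv_eq_of_mul_eq_one_right huu, ← mul_assoc t t u, htt, one_mul]
  have hCz := h.cent_m_eq hy' hg hz1
  have htN : t ∈ Subgroup.normalizer ((Subgroup.zpowers y' : Subgroup G) : Set G) := by
    refine Subgroup.mem_normalizer_fintype fun c hc => ?_
    rw [SetLike.mem_coe, ← hCz, mem_cent] at hc ⊢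
    have e2 : t * z⁻¹ * t⁻¹ = z := by rw [← conj_inv, htz, inv_inv]
    calc t * c * t⁻¹ * z = t * c * t⁻¹ * (t * z⁻¹ * t⁻¹) := by rw [e2]
      _ = t * (c * z⁻¹) * t⁻¹ := by group
      _ = t * (z⁻¹ * c) * t⁻¹ := by rw [(show Commute c z⁻¹ from Commute.inv_right hc).eq]
      _ = (t * z⁻¹ * t⁻¹) * (t * c * t⁻¹) := by group
      _ = z * (t * c * t⁻¹) := by rw [e2]
  have htn : t ∈ N := hall t ht
  have hy'N : y' ∈ N := by
    have e := h.inv_m hy' ht htN
    have hmem : y' ^ 2 ∈ N := by
      have : y' * (t * y'⁻¹ * t⁻¹) ∈ N := by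
        have := N.mul_mem (hNn.conj_mem t htn y') (N.inv_mem htn)
        simpa [mul_assoc] using this
      rwa [← conj_inv, e, inv_inv, ← pow_two] at this
    obtain ⟨j, hj⟩ := h.m_odd
    have e1 : y' = (y' ^ 2) ^ (j + 1) := by
      rw [← pow_mul, show 2 * (j + 1) = m + 1 by omega, pow_succ, ← hy', pow_orderOf_eq_one, one_mul]
    rw [e1]; exact N.pow_mem hmem _
  have hdvd : 2 * n * m ∣ Nat.card N := by
    refine Nat.Coprime.mul_dvd_of_dvd_of_dvd ?_ (hC ▸ Subgroup.card_dvd_of_le hCN)
      (hy' ▸ Subgroup.orderOf_dvd_natCard N hy'N)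
    exact Nat.Coprime.mul_left (Nat.coprime_two_left.mpr h.m_odd) h.coprime_nm
  have hidx : N.index ∣ q := by
    obtain ⟨k, hk⟩ := hdvd
    have hmul := N.card_mul_index
    rw [hk, h.card] at hmul
    refine ⟨k, Nat.eq_of_mul_eq_mul_left (show 0 < 2 * n * m by positivity) ?_⟩
    calc 2 * n * m * q = 2 * n * m * k * N.index := by rw [hmul]; ring
      _ = 2 * n * m * (N.index * k) := by ring
  -- `D` lies in `N`, and `Q = [D, Q]`
  have hD2 : 2 ≤ Nat.card D := by omega
  have hDN : D ≤ N := fun d hdD => by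
    rw [← QuotientGroup.eq_one_iff, ← orderOf_eq_one_iff]
    have hcop : (Nat.card D).Coprime q := by
      refine Nat.coprime_of_dvd' fun r hr h1 h2 => ?_
      have h3 : r ∣ 2 * Nat.card D + 1 := by rw [hd, hQq]; exact h2
      exact (Nat.dvd_add_right (h1.mul_left 2)).mp h3
    refine Nat.eq_one_of_dvd_coprimes hcop ((orderOf_map_dvd (QuotientGroup.mk' N) d).trans
      (Subgroup.orderOf_dvd_natCard D hdD)) ?_
    have := orderOf_dvd_natCard (d : G ⧸ N)
    rw [← Subgroup.index_eq_card] at this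
    exact this.trans hidx
  obtain ⟨⟨d, hdD⟩, hd1⟩ := Subgroup.ne_bot_iff_exists_ne_one.mp
    (show D ≠ ⊥ from fun e => by rw [e, Subgroup.card_bot] at hD2; omega)
  have hQN : Q ≤ N := by
    have hmem : ∀ c : Q, (c : G) * d * (c : G)⁻¹ * d⁻¹ ∈ Q := fun c => by
      have hdN' : d ∈ Subgroup.normalizer (Q : Set G) := hN ▸ Subgroup.mem_sup_right hdD
      have := Q.mul_mem c.2 ((Subgroup.mem_normalizer_iff.mp hdN' _).mp (Q.inv_mem c.2))
      simpa [mul_assoc] using this
    have hsurj : Function.Surjective fun c : Q => (⟨_, hmem c⟩ : Q) :=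
      Finite.injective_iff_surjective.mp fun a b e => by
        have e' : (a : G) * d * (a : G)⁻¹ * d⁻¹ = (b : G) * d * (b : G)⁻¹ * d⁻¹ :=
          congrArg Subtype.val e
        have hab : Commute ((b : G)⁻¹ * a) d := by
          have e2 := mul_right_cancel e'
          calc (b : G)⁻¹ * a * d = (b : G)⁻¹ * ((a : G) * d * (a : G)⁻¹) * a := by group
            _ = (b : G)⁻¹ * ((b : G) * d * (b : G)⁻¹) * a := by rw [e2]
            _ = d * ((b : G)⁻¹ * a) := by group
        by_contra hne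
        have h1 : (b : G)⁻¹ * a ≠ 1 := fun e => hne (Subtype.ext (inv_mul_eq_one.mp e).symm)
        have : d ∈ Q := hQ _ (Q.mul_mem (Q.inv_mem b.2) a.2) h1 ▸ mem_cent.mpr hab.eq.symm
        exact hd1 (Subtype.ext (Subgroup.mem_bot.mp (hinf ▸ Subgroup.mem_inf.mpr ⟨this, hdD⟩)))
    intro c hc
    obtain ⟨c', hc'⟩ := hsurj ⟨c, hc⟩
    rw [← show (c' : G) * d * (c' : G)⁻¹ * d⁻¹ = c from congrArg Subtype.val hc']
    exact N.mul_mem (hNn.conj_mem d (hDN hdD) c') (N.inv_mem (hDN hdD))
  refine Subgroup.eq_top_of_card_eq N (Nat.dvd_antisymm (Subgroup.card_subgroup_dvd_card N) ?_)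
  rw [h.card, show 2 * q * n * m = q * (2 * n * m) by ring]
  exact Nat.Coprime.mul_dvd_of_dvd_of_dvd
    (Nat.Coprime.mul_right (Nat.Coprime.mul_right (Nat.coprime_two_right.mpr h.q_odd)
      h.coprime_q.1) h.coprime_q.2)
    (hQq ▸ Subgroup.card_dvd_of_le hQN) hdvd

/-- Identification. -/
theorem Data.iso {F : Type*} [Field F] [Fintype F] (hF : Fintype.card F = q) :
    Nonempty (G ≃* Matrix.ProjectiveSpecialLinearGroup (Fin 2) F) := by
  obtain ⟨t, s, K, hset, hHK, hsimp⟩ := h.setting
  haveI := hsimp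
  obtain ⟨F', _, _, hodd, ⟨e⟩⟩ := hset.isPSL hHK
  have h1 := CfsgLib.Classical.card_PSL_two (F := F')
  rw [← Nat.card_congr e.toEquiv, h.card] at h1
  have hF3 : 3 ≤ Fintype.card F' := by
    rcases hodd with ⟨j, hj⟩
    have := Fintype.one_lt_card (α := F')
    omega
  have hg : Nat.gcd 2 (Fintype.card F' - 1) = 2 := by
    rcases hodd with ⟨j, hj⟩
    exact Nat.gcd_eq_left ⟨j, by omega⟩
  rw [hg] at h1
  have e2 : 2 * (2 * q * n * m) = q * (q ^ 2 - 1) := by
    have h4 : q ^ 2 = 4 * (n * m) + 1 := by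
      rcases h.rel with ⟨e1, e2⟩ | ⟨e1, e2⟩
      · subst e1 e2; ring
      · have hq : (q : ℤ) = 2 * n - 1 := by omega
        have hm : (m : ℤ) = n - 1 := by omega
        zify
        rw [hq, hm]; ring
    rw [h4, Nat.add_sub_cancel]; ring
  rw [e2] at h1
  have hq0 := h.q5
  have hmono : ∀ u v : ℕ, 2 ≤ u → u < v → u * (u ^ 2 - 1) < v * (v ^ 2 - 1) := by
    intro u v hu huv
    have h2 : u ^ 2 ≤ v ^ 2 := Nat.pow_le_pow_left huv.le 2
    have h3 : 4 ≤ u ^ 2 := (Nat.pow_le_pow_left hu 2)
    exact Nat.mul_lt_mul_of_lt_of_le huv (by omega) (by omega)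
  have hcard : Fintype.card F' = Fintype.card F := by
    rw [hF]
    rcases lt_trichotomy q (Fintype.card F') with e | e | e
    · exact absurd h1 (hmono _ _ (by omega) e).ne
    · exact e.symm
    · exact absurd h1 (hmono _ _ (by omega) e).ne'
  obtain ⟨e'⟩ := CfsgLib.BrauerTuan.psl_congr (F := F') (K := F) hcard
  exact ⟨e.trans e'⟩

end CfsgLib.SpecPSL2
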