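import Cfsg.Agent.Lib.SpecPSL2.Core

/-!
# The odd core is trivial and the Sylow 2-subgroup has two involutions
-/

set_option autoImplicit false
set_option linter.style.haveILetI false
set_option linter.unusedSectionVars false

namespace CfsgLib.SpecPSL2

variable {G : Type*} [Group G] [Finite G] {p q n m : ℕ} (h : Data G p q n m)

include h

/-- An involution inverts every invariant subgroup whose order is prime to `2 n`. -/
theorem Data.inverts {v : G} (hv : orderOf v = 2) {A : Subgroup G}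
    (hA : ∀ a ∈ A, v * a * v⁻¹ ∈ A) (hcop : (Nat.card A).Coprime (2 * n)) :
    ∀ a ∈ A, v * a * v⁻¹ = a⁻¹ := by
  refine inverts_of_fpf hv hA fun a ha e => orderOf_eq_one_iff.mp ?_
  exact Nat.eq_one_of_dvd_coprimes hcop (Subgroup.orderOf_dvd_natCard A ha)
    ((Subgroup.orderOf_dvd_natCard _ (mem_cent.mpr e.symm)).trans (h.cent_invol hv))

/-- The normaliser of a Sylow subgroup of a normal odd-order subgroup has full 2-part. -/
theorem Data.frattini {L : Subgroup G} [L.Normal] (hodd : Odd (Nat.card L)) {r : ℕ} [Fact r.Prime]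
    (R : Sylow r L) :
    ∃ T : Subgroup G, T ≤ Subgroup.normalizer (((R : Subgroup L).map L.subtype : Subgroup G) : Set G) ∧
      Nat.card T = 2 ^ (n.factorization 2 + 1) ∧
      ∀ s : ℕ, s.Prime → s ∣ Nat.card G → ¬ s ∣ Nat.card L → ∃ g ∈ Subgroup.normalizer
        (((R : Subgroup L).map L.subtype : Subgroup G) : Set G), orderOf g = s := by
  haveI : Fact (Nat.Prime 2) := ⟨Nat.prime_two⟩
  set N := Subgroup.normalizer (((R : Subgroup L).map L.subtype : Subgroup G) : Set G) with hN
  have htop : N ⊔ L = ⊤ := Sylow.normalizer_sup_eq_top R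
  have hcard : Nat.card G ∣ Nat.card N * Nat.card L := by
    have e := Subgroup.card_mul_index (L)
    have e2 : L.index ∣ Nat.card N := by
      have e3 := Subgroup.relIndex_sup_right N L
      rw [htop, Subgroup.relIndex_top_right] at e3
      exact e3 ▸ Subgroup.relIndex_dvd_card L N
    rw [← e, mul_comm (Nat.card L)]
    exact Nat.mul_dvd_mul_right e2 _
  have hpow : 2 ^ (n.factorization 2 + 1) ∣ Nat.card N := by
    refine ((Nat.coprime_two_left.mpr hodd).pow_left _).dvd_of_dvd_mul_right (dvd_trans ?_ hcard)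
    rw [← h.factorization_two]
    exact Nat.ordProj_dvd _ _
  obtain ⟨T, hT⟩ := Sylow.exists_subgroup_card_pow_prime 2 hpow
  refine ⟨T.map N.subtype, Subgroup.map_subtype_le T, ?_, fun s hs hsG hsL => ?_⟩
  · rw [Subgroup.card_map_of_injective N.subtype_injective, hT]
  · haveI := Fact.mk hs
    obtain ⟨g, hg⟩ := exists_prime_orderOf_dvd_card' (G := N) s
      ((hs.coprime_iff_not_dvd.mpr hsL).dvd_of_dvd_mul_right (hsG.trans hcard))
    exact ⟨g, g.2, by rw [Subgroup.orderOf_coe, hg]⟩

theorem Data.odd_normal_eq_bot (L : Subgroup G) [L.Normal] (hodd : Odd (Nat.card L)) : L = ⊥ := by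
  haveI : Fact p.Prime := ⟨h.hp⟩
  have hn2 := h.n_pos
  have hm3 := h.m_ge
  by_cases hmr : ∃ r : ℕ, r.Prime ∧ r ∣ m ∧ r ∣ Nat.card L
  · exfalso
    obtain ⟨r, hr, hrm, hrL⟩ := hmr
    haveI := Fact.mk hr
    let R : Sylow r L := default
    obtain ⟨T, hTN, hTc, -⟩ := h.frattini hodd R
    set R' := (R : Subgroup L).map L.subtype with hR'
    have hR1 : R' ≠ ⊥ := by
      rw [hR', Ne, Subgroup.map_eq_bot_iff_of_injective _ L.subtype_injective]
      exact R.ne_bot_of_dvd_card hrL
    have hRp : IsPGroup r R' := R.2.map _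
    -- the Sylow `r`-subgroups of `G` are cyclic
    obtain ⟨y, hy⟩ := h.exm
    obtain ⟨S, hS⟩ := hRp.exists_le_sylow
    have hSc : IsCyclic (S : Subgroup G) := by
      have hr0 : m ≠ 0 := by omega
      have hco : (r ^ m.factorization r) = r ^ (Nat.card G).factorization r := by
        have hr' : ¬ r ∣ 2 * q * n := fun e => by
          rcases hr.dvd_mul.mp e with e | e
          · rcases hr.dvd_mul.mp e with e | e
            · rw [(Nat.prime_dvd_prime_iff_eq hr Nat.prime_two).mp e] at hrm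
              exact Nat.not_even_iff_odd.mpr h.m_odd (even_iff_two_dvd.mpr hrm)
            · exact hr.ne_one (Nat.eq_one_of_dvd_coprimes h.coprime_q.2 e hrm)
          · exact hr.ne_one (Nat.eq_one_of_dvd_coprimes h.coprime_nm e hrm)
        have := h.q5
        rw [h.card, Nat.factorization_mul (Nat.mul_ne_zero (Nat.mul_ne_zero two_ne_zero (by omega))
          (by omega)) hr0]
        simp [Nat.factorization_eq_zero_of_not_dvd hr']
      have hyo : orderOf (y ^ (ordCompl[r] m)) = r ^ m.factorization r := by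
        rw [orderOf_pow_of_dvd (Nat.ordCompl_pos r hr0).ne' (hy ▸ Nat.ordCompl_dvd m r), hy]
        exact Nat.div_div_self (Nat.ordProj_dvd m r) hr0
      let S0 : Sylow r G := Sylow.ofCard (Subgroup.zpowers (y ^ (ordCompl[r] m)))
        (by rw [Nat.card_zpowers, hyo, hco])
      have : IsCyclic (S0 : Subgroup G) :=
        (inferInstance : IsCyclic (Subgroup.zpowers (y ^ (ordCompl[r] m))))
      exact (S0.equiv S).isCyclic.mp this
    have hRc : IsCyclic R' :=
      (Subgroup.subgroupOfEquivOfLe hS).isCyclic.mp inferInstance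
    obtain ⟨⟨z, hz⟩, hgen⟩ := IsCyclic.exists_generator (α := R')
    have hz1 : z ≠ 1 := fun e => hR1 ((Subgroup.eq_bot_iff_forall _).mpr fun w hw => by
      obtain ⟨k, hk⟩ := Subgroup.mem_zpowers_iff.mp (hgen ⟨w, hw⟩)
      have := congrArg Subtype.val hk
      simp only [SubgroupClass.coe_zpow, e, one_zpow] at this
      exact this.symm)
    have hzm : orderOf z ∣ m := by
      have hd : r ∣ orderOf z := by
        obtain ⟨k, hk⟩ := IsPGroup.iff_orderOf.mp hRp ⟨z, hz⟩
        rw [Subgroup.orderOf_mk] at hk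
        rcases k with _ | k
        · exact absurd (orderOf_eq_one_iff.mp hk) hz1
        · rw [hk]; exact dvd_pow_self r k.succ_ne_zero
      rcases h.order_cases hz1 with e | ⟨e, -⟩ | ⟨e, -⟩
      · exact absurd ((Nat.prime_dvd_prime_iff_eq hr h.hp).mp (e ▸ hd) ▸ hrm) h.p_not_dvd.2
      · exact absurd (Nat.eq_one_of_dvd_coprimes h.coprime_nm (hd.trans e) hrm) hr.ne_one
      · exact e
    have hconj : ∀ g ∈ T, ∃ k : ℤ, g * z * g⁻¹ = z ^ k := fun g hg => by
      obtain ⟨k, hk⟩ := Subgroup.mem_zpowers_iff.mp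
        (hgen ⟨g * z * g⁻¹, (Subgroup.mem_normalizer_iff.mp (hTN hg) z).mp hz⟩)
      exact ⟨k, (congrArg Subtype.val hk).symm⟩
    -- `T` meets the centraliser of `z` trivially, so it is abelian
    have hfree : ∀ g ∈ T, g * z = z * g → g = 1 := fun g hg e => by
      refine orderOf_eq_one_iff.mp (Nat.eq_one_of_dvd_coprimes (a := 2 ^ (n.factorization 2 + 1))
        (b := m) ((Nat.coprime_two_left.mpr h.m_odd).pow_left _)
        (hTc ▸ Subgroup.orderOf_dvd_natCard T hg)
        ((Subgroup.orderOf_dvd_natCard _ (mem_cent.mpr e)).trans (h.cent_m hz1 hzm)))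
    have hab : ∀ a ∈ T, ∀ b ∈ T, a * b = b * a := by
      intro a ha b hb
      obtain ⟨i, hi⟩ := hconj a ha
      obtain ⟨j, hj⟩ := hconj b hb
      have e1 : (a * b) * z * (a * b)⁻¹ = z ^ (i * j) := by
        rw [show a * b * z * (a * b)⁻¹ = a * (b * z * b⁻¹) * a⁻¹ by group, hj, ← conj_zpow, hi,
          ← zpow_mul]
      have e2 : (b * a) * z * (b * a)⁻¹ = z ^ (i * j) := by
        rw [show b * a * z * (b * a)⁻¹ = b * (a * z * a⁻¹) * b⁻¹ by group, hi, ← conj_zpow, hj,
          ← zpow_mul, mul_comm]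
      have e3 : ((b * a)⁻¹ * (a * b)) * z = z * ((b * a)⁻¹ * (a * b)) := by
        have e4 := e1.trans e2.symm
        calc (b * a)⁻¹ * (a * b) * z = (b * a)⁻¹ * ((a * b) * z * (a * b)⁻¹) * (a * b) := by group
          _ = (b * a)⁻¹ * ((b * a) * z * (b * a)⁻¹) * (a * b) := by rw [e4]
          _ = z * ((b * a)⁻¹ * (a * b)) := by group
      exact (inv_mul_eq_one.mp
        (hfree _ (T.mul_mem (T.inv_mem (T.mul_mem hb ha)) (T.mul_mem ha hb)) e3)).symm
    obtain ⟨u, hu, v, hv, huo, hvo, hne⟩ := h.two_involutions hTc hab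
    have hcopR : (Nat.card R').Coprime (2 * n) := by
      obtain ⟨k, hk⟩ := hRp.exists_card_eq
      rw [hk]
      refine Nat.Coprime.pow_left k (hr.coprime_iff_not_dvd.mpr fun e => ?_)
      rcases hr.dvd_mul.mp e with e | e
      · rw [(Nat.prime_dvd_prime_iff_eq hr Nat.prime_two).mp e] at hrm
        exact Nat.not_even_iff_odd.mpr h.m_odd (even_iff_two_dvd.mpr hrm)
      · exact hr.ne_one (Nat.eq_one_of_dvd_coprimes h.coprime_nm e hrm)
    have hiu := h.inverts huo (fun w hw => (Subgroup.mem_normalizer_iff.mp (hTN hu) w).mp hw)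
      hcopR z hz
    have hiv := h.inverts hvo (fun w hw => (Subgroup.mem_normalizer_iff.mp (hTN hv) w).mp hw)
      hcopR z hz
    refine hne (inv_mul_eq_one.mp (hfree _ (T.mul_mem (T.inv_mem hu) hv) ?_))
    calc u⁻¹ * v * z = u⁻¹ * (v * z * v⁻¹) * v := by group
      _ = u⁻¹ * (u * z * u⁻¹) * v := by rw [hiv, hiu]
      _ = z * (u⁻¹ * v) := by group
  push Not at hmr
  by_cases hpL : p ∣ Nat.card L
  · exfalso
    let R : Sylow p L := default
    obtain ⟨T, hTN, hTc, hel⟩ := h.frattini hodd R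
    set R' := (R : Subgroup L).map L.subtype with hR'
    set N := Subgroup.normalizer (R' : Set G) with hN
    have hR1 : R' ≠ ⊥ := by
      rw [hR', Ne, Subgroup.map_eq_bot_iff_of_injective _ L.subtype_injective]
      exact R.ne_bot_of_dvd_card hpL
    obtain ⟨⟨z, hz⟩, hz1⟩ := R'.ne_bot_iff_exists_ne_one.mp hR1
    have hzne : z ≠ 1 := fun e => hz1 (Subtype.ext e)
    have hzp : orderOf z = p := by
      obtain ⟨k, hk⟩ := IsPGroup.iff_orderOf.mp (R.2.map L.subtype) ⟨z, hz⟩
      rw [Subgroup.orderOf_mk] at hk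
      rcases k with _ | k
      · exact absurd (orderOf_eq_one_iff.mp hk) hzne
      · rcases h.order_cases hzne with e | ⟨e, -⟩ | ⟨e, -⟩
        · exact e
        · exact absurd ((hk ▸ dvd_pow_self p k.succ_ne_zero).trans e) h.p_not_dvd.1
        · exact absurd ((hk ▸ dvd_pow_self p k.succ_ne_zero).trans e) h.p_not_dvd.2
    set W := Subgroup.centralizer (R' : Set G) with hW
    have hWc : Nat.card W ∣ q := dvd_trans (Subgroup.card_dvd_of_le fun w hw => mem_cent.mpr
      (Subgroup.mem_centralizer_iff.mp hw z hz).symm) (h.cent_p hzp)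
    have hWn : ∀ g ∈ N, ∀ w ∈ W, g * w * g⁻¹ ∈ W := by
      intro g hg w hw
      refine Subgroup.mem_centralizer_iff.mpr fun c hc => ?_
      have hc' : g⁻¹ * c * g ∈ R' := by
        have := (Subgroup.mem_normalizer_iff.mp (N.inv_mem hg) c).mp hc
        rwa [inv_inv] at this
      have e := Subgroup.mem_centralizer_iff.mp hw _ hc'
      calc c * (g * w * g⁻¹) = g * ((g⁻¹ * c * g) * w) * g⁻¹ := by group
        _ = g * (w * (g⁻¹ * c * g)) * g⁻¹ := by rw [e]
        _ = g * w * g⁻¹ * c := by group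
    have hq2 : q.Coprime (2 * n) :=
      Nat.Coprime.mul_right (Nat.coprime_two_right.mpr h.q_odd) h.coprime_q.1
    obtain ⟨v, hvT, hvo⟩ : ∃ v ∈ T, orderOf v = 2 := by
      haveI : Fact (Nat.Prime 2) := ⟨Nat.prime_two⟩
      obtain ⟨v, hv⟩ := exists_prime_orderOf_dvd_card' (G := T) 2
        (hTc ▸ dvd_pow_self 2 (Nat.succ_ne_zero _))
      exact ⟨v, v.2, by rw [Subgroup.orderOf_coe, hv]⟩
    have hinvR : ∀ u ∈ N, orderOf u = 2 → ∀ w ∈ R', u * w * u⁻¹ = w⁻¹ := fun u hu huo =>
      h.inverts huo (fun w hw => (Subgroup.mem_normalizer_iff.mp hu w).mp hw) (by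
        obtain ⟨k, hk⟩ := (R.2.map L.subtype : IsPGroup p R').exists_card_eq
        rw [hk]
        exact Nat.Coprime.pow_left k (Nat.Coprime.coprime_dvd_left h.p_dvd_q hq2))
    have hinvW : ∀ w ∈ W, v * w * v⁻¹ = w⁻¹ :=
      h.inverts hvo (fun w hw => hWn v (hTN hvT) w hw) (Nat.Coprime.coprime_dvd_left hWc hq2)
    let I := {u : G // u ∈ N ∧ orderOf u = 2}
    have hvv : v * v = 1 := by rw [← pow_two, ← hvo, pow_orderOf_eq_one]
    have hI : Nat.card I = Nat.card W := by
      refine (Nat.card_congr (Equiv.ofBijective (fun w : W => (⟨v * w, ?_, ?_⟩ : I)) ⟨?_, ?_⟩)).symm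
      · refine N.mul_mem (hTN hvT) (Subgroup.mem_normalizer_iff.mpr fun c => ?_)
        constructor
        · intro hc
          rw [show (w : G) * c = c * w from (Subgroup.mem_centralizer_iff.mp w.2 c hc).symm,
            mul_inv_cancel_right]
          exact hc
        · intro hc
          have e := Subgroup.mem_centralizer_iff.mp w.2 _ hc
          rw [inv_mul_cancel_right] at e
          rw [mul_left_cancel e]; exact hc
      · refine orderOf_eq_prime ?_ fun e => ?_
        · rw [pow_two]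
          calc v * w * (v * w) = (v * w * v⁻¹) * (v * v) * w := by group
            _ = 1 := by rw [hinvW w w.2, hvv, mul_one, inv_mul_cancel]
        · have e' : v = (w : G)⁻¹ := eq_inv_of_mul_eq_one_left e
          have := (hvo ▸ (e' ▸ (orderOf_inv (w : G)).le.antisymm (orderOf_inv (w : G)).ge :
            orderOf v = orderOf (w : G)))
          exact absurd (Nat.eq_one_of_dvd_coprimes (Nat.Coprime.coprime_dvd_left hWc hq2)
            (this ▸ Subgroup.orderOf_dvd_natCard W w.2) (dvd_mul_right 2 n)) (by norm_num)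
      · intro a b e; exact Subtype.ext (mul_left_cancel (congrArg Subtype.val e))
      · rintro ⟨u, huN, huo⟩
        refine ⟨⟨v⁻¹ * u, Subgroup.mem_centralizer_iff.mpr fun c hc => ?_⟩,
          Subtype.ext (by simp)⟩
        have e1 := hinvR u huN huo c hc
        have e2 := hinvR v (hTN hvT) hvo c hc
        calc c * (v⁻¹ * u) = v⁻¹ * (v * c * v⁻¹) * u := by group
          _ = v⁻¹ * (u * c * u⁻¹) * u := by rw [e1, e2]
          _ = v⁻¹ * u * c := by group
    obtain ⟨r, hr, hrm⟩ := Nat.exists_prime_and_dvd (show m ≠ 1 by omega)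
    obtain ⟨g, hgN, hgo⟩ := hel r hr (hrm.trans (h.card ▸ dvd_mul_left m _)) (hmr r hr hrm)
    haveI := Fact.mk hr
    letI : MulAction (Subgroup.zpowers g) I :=
      { smul := fun c u => ⟨(c : G) * u.1 * (c : G)⁻¹,
          N.mul_mem (N.mul_mem (Subgroup.zpowers_le.mpr hgN c.2) u.2.1)
            (N.inv_mem (Subgroup.zpowers_le.mpr hgN c.2)),
          (MulEquiv.orderOf_eq (MulAut.conj (c : G)) u.1).trans u.2.2⟩
        one_smul := fun u => Subtype.ext (by show (1 : G) * u.1 * (1 : G)⁻¹ = u.1; simp)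
        mul_smul := fun c d u => Subtype.ext (by
          show ((c : G) * d) * u.1 * ((c : G) * d)⁻¹ = (c : G) * ((d : G) * u.1 * (d : G)⁻¹) * (c : G)⁻¹
          group) }
    have hP : IsPGroup r (Subgroup.zpowers g) := IsPGroup.of_card (n := 1)
      (by rw [Nat.card_zpowers, hgo, pow_one])
    have hndvd : ¬ r ∣ Nat.card I := fun e => hr.ne_one
      (Nat.eq_one_of_dvd_coprimes h.coprime_q.2 ((hI ▸ e).trans hWc) hrm)
    obtain ⟨⟨u, huN, huo⟩, hu⟩ := hP.nonempty_fixed_point_of_prime_not_dvd_card I hndvd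
    have e : g * u * g⁻¹ = u := congrArg Subtype.val (hu ⟨g, Subgroup.mem_zpowers g⟩)
    have hc : Commute g u := mul_inv_eq_iff_eq_mul.mp e
    have h2r : (2 : ℕ) ≠ r := fun e => Nat.not_even_iff_odd.mpr h.m_odd
      (even_iff_two_dvd.mpr (e ▸ hrm))
    have ho : orderOf (g * u) = r * 2 := by
      rw [hc.orderOf_mul_eq_mul_orderOf_of_coprime
        (by rw [hgo, huo]; exact (Nat.coprime_primes hr Nat.prime_two).mpr h2r.symm), hgo, huo]
    rcases h.two_primes hr Nat.prime_two h2r.symm (ho ▸ dvd_mul_right r 2)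
      (ho ▸ dvd_mul_left 2 r) with ⟨e1, -⟩ | ⟨-, e2⟩
    · exact hr.ne_one (Nat.eq_one_of_dvd_coprimes h.coprime_nm e1 hrm)
    · exact Nat.not_even_iff_odd.mpr h.m_odd (even_iff_two_dvd.mpr e2)
  -- the remaining case
  have hLn : Nat.card L ∣ n := by
    have h1 : Nat.card L ∣ (2 * q * m) * n :=
      (Subgroup.card_subgroup_dvd_card L).trans (dvd_of_eq (by rw [h.card]; ring))
    refine Nat.Coprime.dvd_of_dvd_mul_left (Nat.coprime_of_dvd fun r hr hc hd => ?_) h1
    rcases hr.dvd_mul.mp hd with e | e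
    · rcases hr.dvd_mul.mp e with e | e
      · rw [(Nat.prime_dvd_prime_iff_eq hr Nat.prime_two).mp e] at hc
        exact Nat.not_even_iff_odd.mpr hodd (even_iff_two_dvd.mpr hc)
      · obtain ⟨f, hf⟩ := h.hpow
        have := (Nat.prime_dvd_prime_iff_eq hr h.hp).mp (hr.dvd_of_dvd_pow (hf ▸ e))
        exact hpL (this ▸ hc)
    · exact hmr r hr e hc
  let P : Sylow p G := default
  have hdiv : q ∣ Nat.card L - 1 := by
    rw [← h.sylow_p_card P]
    refine card_dvd_sub_one (fun a _ => by simp [Subgroup.normalizer_eq_top L]) ?_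
    intro a ha v hv hv1 e
    refine orderOf_eq_one_iff.mp (Nat.eq_one_of_dvd_coprimes (a := q) (b := 2 * n)
      (Nat.Coprime.mul_right (Nat.coprime_two_right.mpr h.q_odd) h.coprime_q.1)
      (h.sylow_p_card P ▸ Subgroup.orderOf_dvd_natCard _ ha)
      ((Subgroup.orderOf_dvd_natCard _ (mem_cent.mpr e)).trans
        (h.cent_n hv1 ((Subgroup.orderOf_dvd_natCard L hv).trans hLn))))
  have hle := Nat.le_of_dvd (by omega) hLn
  rw [← Subgroup.card_eq_one]
  have hpos := Nat.card_pos (α := L)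
  rcases Nat.eq_zero_or_pos (Nat.card L - 1) with e | e
  · omega
  · have := Nat.le_of_dvd e hdiv
    have := h.rel
    omega

end CfsgLib.SpecPSL2
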